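import Mathlib

/-!
# The Čech nerve of an object in a category with finite products: faces, the extra degeneracy
of the décalage, and contractibility of the décalage of the Čech complex of any presheaf.
-/

set_option autoImplicit false
universe w v u
open CategoryTheory CategoryTheory.Limits Opposite

namespace Groth.Agent.Lib.Helper21.EtCartan

variable {𝒟 : Type u} [Category.{v} 𝒟] [HasFiniteProducts 𝒟] (Z : 𝒟)

/-- The `m`-fold power of `Z`. -/
noncomputable abbrev Zp (m : ℕ) : 𝒟 := ∏ᶜ (fun _ : Fin m => Z)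

/-- The face maps of the Čech nerve: forget the `k`-th coordinate. -/
noncomputable def fc (m : ℕ) (k : Fin (m + 1)) : Zp Z (m + 1) ⟶ Zp Z m :=
  Pi.lift (fun a => Pi.π (fun _ : Fin (m + 1) => Z) (k.succAbove a))

@[reassoc (attr := simp)]
lemma fc_π (m : ℕ) (k : Fin (m + 1)) (a : Fin m) :
    fc Z m k ≫ Pi.π (fun _ : Fin m => Z) a = Pi.π (fun _ : Fin (m + 1) => Z) (k.succAbove a) :=
  Pi.lift_π _ _

/-- Dropping the coordinate `k + 1` and then the coordinate `0` is dropping `0` and then `k`. -/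
lemma fc_succ_fc_zero (m : ℕ) (k : Fin (m + 1)) :
    fc Z (m + 1) k.succ ≫ fc Z m 0 = fc Z (m + 1) 0 ≫ fc Z m k := by
  apply Pi.hom_ext
  intro a
  simp only [Category.assoc, fc_π, Fin.succAbove_zero, Fin.succ_succAbove_succ]

/-- The extra degeneracy: repeat the coordinate `0`. -/
noncomputable def sg (m : ℕ) : Zp Z (m + 1) ⟶ Zp Z (m + 2) :=
  Pi.lift (Fin.cases (Pi.π (fun _ : Fin (m + 1) => Z) 0)
    (fun i => Pi.π (fun _ : Fin (m + 1) => Z) i))

@[reassoc (attr := simp)]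
lemma sg_π_zero (m : ℕ) :
    sg Z m ≫ Pi.π (fun _ : Fin (m + 2) => Z) 0 = Pi.π (fun _ : Fin (m + 1) => Z) 0 := by
  simp [sg]

@[reassoc (attr := simp)]
lemma sg_π_succ (m : ℕ) (i : Fin (m + 1)) :
    sg Z m ≫ Pi.π (fun _ : Fin (m + 2) => Z) i.succ = Pi.π (fun _ : Fin (m + 1) => Z) i := by
  simp [sg]

lemma sg_fc_one (m : ℕ) : sg Z m ≫ fc Z (m + 1) 1 = 𝟙 _ := by
  apply Pi.hom_ext
  intro a
  rw [Category.assoc, fc_π, Category.id_comp]
  refine Fin.cases ?_ (fun b => ?_) a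
  · have : (1 : Fin (m + 2)).succAbove (0 : Fin (m + 1)) = 0 := by
      rw [← Fin.succ_zero_eq_one, Fin.succ_succAbove_zero]
    rw [this, sg_π_zero]
  · have : (1 : Fin (m + 2)).succAbove b.succ = b.succ.succ := by
      rw [← Fin.succ_zero_eq_one, Fin.succ_succAbove_succ, Fin.succAbove_zero]
    rw [this, sg_π_succ]

lemma sg_fc_succ_succ (m : ℕ) (k : Fin (m + 1)) :
    sg Z (m + 1) ≫ fc Z (m + 2) k.succ.succ = fc Z (m + 1) k.succ ≫ sg Z m := by
  apply Pi.hom_ext
  intro a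
  rw [Category.assoc, fc_π, Category.assoc]
  refine Fin.cases ?_ (fun b => ?_) a
  · rw [Fin.succ_succAbove_zero, sg_π_zero, sg_π_zero, fc_π, Fin.succ_succAbove_zero]
  · rw [Fin.succ_succAbove_succ, sg_π_succ, sg_π_succ, fc_π]

/-- `Z^{m+1} = Z × Z^m` through the coordinate `0` and the face `0`. -/
noncomputable def isLimitBinaryFan (m : ℕ) :
    IsLimit (BinaryFan.mk (Pi.π (fun _ : Fin (m + 1) => Z) 0) (fc Z m 0)) :=
  BinaryFan.isLimitMk
    (fun s => Pi.lift (Fin.cases s.fst (fun i => s.snd ≫ Pi.π (fun _ : Fin m => Z) i)))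
    (fun s => by simp)
    (fun s => by
      apply Pi.hom_ext
      intro a
      simp only [Category.assoc, fc_π, Fin.succAbove_zero]
      simp)
    (fun s t h1 h2 => by
      apply Pi.hom_ext
      intro a
      refine Fin.cases ?_ (fun b => ?_) a
      · simpa using h1
      · have := h2 =≫ Pi.π (fun _ : Fin m => Z) b
        simpa [Category.assoc, fc_π, Fin.succAbove_zero] using this)

section Presheaf
variable (P : 𝒟ᵒᵖ ⥤ AddCommGrpCat.{w})

/-- The Čech differential `P(Z^m) ⟶ P(Z^{m+1})`. -/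
noncomputable def dC (m : ℕ) : P.obj (op (Zp Z m)) →+ P.obj (op (Zp Z (m + 1))) :=
  ∑ k : Fin (m + 1), ((-1 : ℤ) ^ (k : ℕ)) • (P.map (fc Z m k).op).hom

/-- The differential of the décalage: the faces which keep the coordinate `0`. -/
noncomputable def dD (m : ℕ) : P.obj (op (Zp Z (m + 1))) →+ P.obj (op (Zp Z (m + 2))) :=
  ∑ k : Fin (m + 1), ((-1 : ℤ) ^ (k : ℕ)) • (P.map (fc Z (m + 1) k.succ).op).hom

lemma dC_apply (m : ℕ) (x : P.obj (op (Zp Z m))) :
    dC Z P m x = ∑ k : Fin (m + 1), ((-1 : ℤ) ^ (k : ℕ)) • P.map (fc Z m k).op x := by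
  simp [dC]

lemma dD_apply (m : ℕ) (x : P.obj (op (Zp Z (m + 1)))) :
    dD Z P m x = ∑ k : Fin (m + 1), ((-1 : ℤ) ^ (k : ℕ)) • P.map (fc Z (m + 1) k.succ).op x := by
  simp [dD]

omit [HasFiniteProducts 𝒟] in
lemma map_comp_apply' {U V W : 𝒟} (f : U ⟶ V) (g : V ⟶ W) (z : P.obj (op W)) :
    P.map f.op (P.map g.op z) = P.map (f ≫ g).op z := by
  rw [op_comp, P.map_comp]
  rfl

omit [HasFiniteProducts 𝒟] in
lemma map_id_apply' (U : 𝒟) (z : P.obj (op U)) : P.map (𝟙 U).op z = z := by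
  rw [op_id, P.map_id]
  rfl

/-- Restriction along the face `0` is a morphism from the Čech complex to its décalage. -/
lemma dD_face_zero (m : ℕ) (x : P.obj (op (Zp Z m))) :
    dD Z P m (P.map (fc Z m 0).op x) = P.map (fc Z (m + 1) 0).op (dC Z P m x) := by
  rw [dD_apply, dC_apply, map_sum]
  refine Finset.sum_congr rfl (fun k _ => ?_)
  rw [map_zsmul, map_comp_apply', map_comp_apply', fc_succ_fc_zero]

/-- The contracting homotopy of the décalage. -/
lemma homotopy_dD (m : ℕ) (x : P.obj (op (Zp Z (m + 2)))) :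
    P.map (sg Z (m + 1)).op (dD Z P (m + 1) x) + dD Z P m (P.map (sg Z m).op x) = x := by
  rw [dD_apply, dD_apply, map_sum, Fin.sum_univ_succ]
  have h0 : P.map (sg Z (m + 1)).op
      (((-1 : ℤ) ^ ((0 : Fin (m + 1 + 1)) : ℕ)) • P.map (fc Z (m + 2) (0 : Fin (m + 2)).succ).op x)
      = x := by
    rw [Fin.val_zero, pow_zero, one_smul, map_comp_apply', Fin.succ_zero_eq_one, sg_fc_one,
      map_id_apply']
  rw [h0]
  refine (add_assoc _ _ _).trans ?_
  have h1 : ∑ j : Fin (m + 1), P.map (sg Z (m + 1)).op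
      (((-1 : ℤ) ^ ((j.succ : Fin (m + 1 + 1)) : ℕ)) •
        P.map (fc Z (m + 2) (j.succ : Fin (m + 2)).succ).op x) +
      ∑ k : Fin (m + 1), ((-1 : ℤ) ^ (k : ℕ)) •
        P.map (fc Z (m + 1) k.succ).op (P.map (sg Z m).op x) = 0 := by
    rw [← Finset.sum_add_distrib]
    refine Finset.sum_eq_zero (fun j _ => ?_)
    rw [map_zsmul, map_comp_apply', map_comp_apply', sg_fc_succ_succ, Fin.val_succ, pow_succ,
      mul_neg, mul_one, neg_smul, neg_add_cancel]
  rw [h1, add_zero]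

/-- The décalage of the Čech complex of any presheaf is exact in positive degrees. -/
lemma dD_exact (m : ℕ) (x : P.obj (op (Zp Z (m + 2)))) (hx : dD Z P (m + 1) x = 0) :
    ∃ y, dD Z P m y = x := by
  refine ⟨P.map (sg Z m).op x, ?_⟩
  have h := homotopy_dD Z P m x
  rw [hx, map_zero, zero_add] at h
  exact h

end Presheaf

end Groth.Agent.Lib.Helper21.EtCartan
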