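import Groth.Agent.Lib.Helper21.TildeAlg

/-!
# Exactness descends along faithfully flat base change (semilinear form)
-/

set_option autoImplicit false
set_option linter.style.haveILetI false
set_option linter.unusedSimpArgs false
universe w v u
open CategoryTheory TensorProduct

namespace Groth.Agent.Lib.Helper21.EtCartan

open Groth.Agent.Lib.Helper21.Tilde

/-- Faithfully flat descent of "kernel contained in range". -/
theorem ff_ker_le_range' {R : Type*} [CommRing R] (B : Type*) [CommRing B] [Algebra R B]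
    [Module.FaithfullyFlat R B]
    {N1 N2 N3 : Type*} [AddCommGroup N1] [AddCommGroup N2] [AddCommGroup N3]
    [Module R N1] [Module R N2] [Module R N3] (l12 : N1 →ₗ[R] N2) (l23 : N2 →ₗ[R] N3)
    (h : ∀ z : B ⊗[R] N2, l23.lTensor B z = 0 → ∃ w, l12.lTensor B w = z)
    (x : N2) (hx : l23 x = 0) : ∃ y, l12 y = x := by
  let K := LinearMap.ker l23
  let I := LinearMap.range l12
  let g : K →ₗ[R] N2 ⧸ I := I.mkQ ∘ₗ K.subtype
  have hg : g = 0 := by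
    rw [Module.FaithfullyFlat.zero_iff_lTensor_zero R B]
    apply LinearMap.ext
    intro z
    rw [LinearMap.lTensor_comp, LinearMap.comp_apply]
    have h1 : l23.lTensor B (K.subtype.lTensor B z) = 0 := by
      rw [← LinearMap.comp_apply, ← LinearMap.lTensor_comp]
      have h0 : l23 ∘ₗ K.subtype = 0 := by
        apply LinearMap.ext
        intro k
        exact k.2
      rw [h0, LinearMap.lTensor_zero, LinearMap.zero_apply]
    obtain ⟨w, hw⟩ := h _ h1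
    rw [← hw, ← LinearMap.comp_apply, ← LinearMap.lTensor_comp]
    have h0 : I.mkQ ∘ₗ l12 = 0 := by
      apply LinearMap.ext
      intro n
      exact (Submodule.Quotient.mk_eq_zero I).2 ⟨n, rfl⟩
    rw [h0, LinearMap.lTensor_zero]
    rfl
  have h2 : g ⟨x, hx⟩ = 0 := by rw [hg]; rfl
  exact (Submodule.Quotient.mk_eq_zero I).1 h2

section
variable {A B : Type*} [CommRing A] [CommRing B] (φ : A →+* B)
variable {N₁ N₂ N₃ N₁' N₂' N₃' : Type*}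
  [AddCommGroup N₁] [AddCommGroup N₂] [AddCommGroup N₃]
  [AddCommGroup N₁'] [AddCommGroup N₂'] [AddCommGroup N₃']
  [Module A N₁] [Module A N₂] [Module A N₃] [Module B N₁'] [Module B N₂'] [Module B N₃']

/-- Descent of exactness along a faithfully flat ring map, for base change maps given by
semilinear maps. -/
theorem exact_descent (hfl : φ.Flat)
    (hsurj : ∀ p : PrimeSpectrum A, ∃ q : PrimeSpectrum B, q.comap φ = p)
    (f₁ : N₁ →ₛₗ[φ] N₁') (f₂ : N₂ →ₛₗ[φ] N₂') (f₃ : N₃ →ₛₗ[φ] N₃')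
    (hf₁ : SLBC φ f₁) (hf₂ : SLBC φ f₂) (hf₃ : SLBC φ f₃)
    (l₁₂ : N₁ →ₗ[A] N₂) (l₂₃ : N₂ →ₗ[A] N₃) (l₁₂' : N₁' →ₗ[B] N₂') (l₂₃' : N₂' →ₗ[B] N₃')
    (hc₁₂ : ∀ n, f₂ (l₁₂ n) = l₁₂' (f₁ n)) (hc₂₃ : ∀ n, f₃ (l₂₃ n) = l₂₃' (f₂ n))
    (hex : ∀ z, l₂₃' z = 0 → ∃ w, l₁₂' w = z)
    (x : N₂) (hx : l₂₃ x = 0) : ∃ y, l₁₂ y = x := by
  letI : Algebra A B := φ.toAlgebra
  haveI : Module.Flat A B := hfl
  haveI : Module.FaithfullyFlat A B := Module.FaithfullyFlat.of_comap_surjective (fun p => by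
    obtain ⟨q, hq⟩ := hsurj p
    exact ⟨q, hq⟩)
  obtain ⟨e₁, he₁⟩ := hf₁.exists_equiv
  obtain ⟨e₂, he₂⟩ := hf₂.exists_equiv
  obtain ⟨e₃, he₃⟩ := hf₃.exists_equiv
  have hsq₁₂ : ∀ z : B ⊗[A] N₁, e₂ (l₁₂.lTensor B z) = l₁₂' (e₁ z) := by
    intro z
    induction z using TensorProduct.induction_on with
    | zero => simp
    | tmul b n =>
      rw [LinearMap.lTensor_tmul]
      have h1 : b ⊗ₜ[A] l₁₂ n = b • ((1 : B) ⊗ₜ[A] l₁₂ n) := by
        rw [TensorProduct.smul_tmul', smul_eq_mul, mul_one]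
      have h2 : b ⊗ₜ[A] n = b • ((1 : B) ⊗ₜ[A] n) := by
        rw [TensorProduct.smul_tmul', smul_eq_mul, mul_one]
      rw [h1, h2, map_smul, map_smul, map_smul, he₂, he₁, one_smul, one_smul, hc₁₂]
    | add a b ha hb => rw [map_add, map_add, map_add, map_add, ha, hb]
  have hsq₂₃ : ∀ z : B ⊗[A] N₂, e₃ (l₂₃.lTensor B z) = l₂₃' (e₂ z) := by
    intro z
    induction z using TensorProduct.induction_on with
    | zero => simp
    | tmul b n =>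
      rw [LinearMap.lTensor_tmul]
      have h1 : b ⊗ₜ[A] l₂₃ n = b • ((1 : B) ⊗ₜ[A] l₂₃ n) := by
        rw [TensorProduct.smul_tmul', smul_eq_mul, mul_one]
      have h2 : b ⊗ₜ[A] n = b • ((1 : B) ⊗ₜ[A] n) := by
        rw [TensorProduct.smul_tmul', smul_eq_mul, mul_one]
      rw [h1, h2, map_smul, map_smul, map_smul, he₃, he₂, one_smul, one_smul, hc₂₃]
    | add a b ha hb => rw [map_add, map_add, map_add, map_add, ha, hb]
  refine ff_ker_le_range' B l₁₂ l₂₃ ?_ x hx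
  intro z hz
  have h1 : l₂₃' (e₂ z) = 0 := by rw [← hsq₂₃, hz, map_zero]
  obtain ⟨w, hw⟩ := hex _ h1
  refine ⟨e₁.symm w, e₂.injective ?_⟩
  rw [hsq₁₂, LinearEquiv.apply_symm_apply, hw]

end

end Groth.Agent.Lib.Helper21.EtCartan

namespace Groth.Agent.Lib.Helper21.EtCartan

open Groth.Agent.Lib.Helper21.Tilde

section
variable {A B : Type*} [CommRing A] [CommRing B] (φ : A →+* B)
variable {R₁ R₂ R₃ R₁' R₂' R₃' : Type*} [CommRing R₁] [CommRing R₂] [CommRing R₃]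
  [CommRing R₁'] [CommRing R₂'] [CommRing R₃']
variable {N₁ N₂ N₃ N₁' N₂' N₃' : Type*}
  [AddCommGroup N₁] [AddCommGroup N₂] [AddCommGroup N₃]
  [AddCommGroup N₁'] [AddCommGroup N₂'] [AddCommGroup N₃']
  [Module R₁ N₁] [Module R₂ N₂] [Module R₃ N₃] [Module R₁' N₁'] [Module R₂' N₂'] [Module R₃' N₃']

/-- Base change along the right edge of a pushout square, with the restricted module
structures. -/
theorem slbc_restrict {R R' N N' : Type*} [CommRing R] [CommRing R'] [AddCommGroup N]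
    [AddCommGroup N'] [Module R N] [Module R' N'] {α : A →+* R} {β : B →+* R'} {ψ : R →+* R'}
    (hsq : PushoutSq φ α β ψ) {f : N →ₛₗ[ψ] N'} (hf : SLBC ψ f) :
    letI : Module A N := Module.compHom N α
    letI : Module B N' := Module.compHom N' β
    ∃ f₀ : N →ₛₗ[φ] N', (∀ n, f₀ n = f n) ∧ SLBC φ f₀ := by
  letI : Module A N := Module.compHom N α
  letI : Module B N' := Module.compHom N' β
  obtain ⟨hcomm, -⟩ := id hsq
  let f₀ : N →ₛₗ[φ] N' :=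
    { toFun := f
      map_add' := f.map_add
      map_smul' := fun a n => by
        change f (α a • n) = β (φ a) • f n
        rw [f.map_smulₛₗ, hcomm] }
  exact ⟨f₀, fun _ => rfl, SLBC.of_pushoutSq hsq hf (fun _ _ => rfl) (fun _ _ => rfl) f₀
    (fun _ => rfl)⟩

/-- Descent of exactness along a faithfully flat ring map `φ : A → B`: the modules of the lower
sequence live over rings `Rᵢ` over `A`, those of the upper sequence over `Rᵢ' = B ⊗_A Rᵢ`. -/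
theorem exact_descent_sq (hfl : φ.Flat)
    (hsurj : ∀ p : PrimeSpectrum A, ∃ q : PrimeSpectrum B, q.comap φ = p)
    {α₁ : A →+* R₁} {α₂ : A →+* R₂} {α₃ : A →+* R₃}
    {β₁ : B →+* R₁'} {β₂ : B →+* R₂'} {β₃ : B →+* R₃'}
    {ψ₁ : R₁ →+* R₁'} {ψ₂ : R₂ →+* R₂'} {ψ₃ : R₃ →+* R₃'}
    (hsq₁ : PushoutSq φ α₁ β₁ ψ₁) (hsq₂ : PushoutSq φ α₂ β₂ ψ₂) (hsq₃ : PushoutSq φ α₃ β₃ ψ₃)
    {f₁ : N₁ →ₛₗ[ψ₁] N₁'} {f₂ : N₂ →ₛₗ[ψ₂] N₂'} {f₃ : N₃ →ₛₗ[ψ₃] N₃'}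
    (hf₁ : SLBC ψ₁ f₁) (hf₂ : SLBC ψ₂ f₂) (hf₃ : SLBC ψ₃ f₃)
    (l₁₂ : N₁ →+ N₂) (l₂₃ : N₂ →+ N₃) (l₁₂' : N₁' →+ N₂') (l₂₃' : N₂' →+ N₃')
    (hl₁₂ : ∀ (a : A) (n : N₁), l₁₂ (α₁ a • n) = α₂ a • l₁₂ n)
    (hl₂₃ : ∀ (a : A) (n : N₂), l₂₃ (α₂ a • n) = α₃ a • l₂₃ n)
    (hl₁₂' : ∀ (b : B) (n : N₁'), l₁₂' (β₁ b • n) = β₂ b • l₁₂' n)
    (hl₂₃' : ∀ (b : B) (n : N₂'), l₂₃' (β₂ b • n) = β₃ b • l₂₃' n)
    (hc₁₂ : ∀ n, f₂ (l₁₂ n) = l₁₂' (f₁ n)) (hc₂₃ : ∀ n, f₃ (l₂₃ n) = l₂₃' (f₂ n))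
    (hex : ∀ z, l₂₃' z = 0 → ∃ w, l₁₂' w = z)
    (x : N₂) (hx : l₂₃ x = 0) : ∃ y, l₁₂ y = x := by
  letI : Module A N₁ := Module.compHom N₁ α₁
  letI : Module A N₂ := Module.compHom N₂ α₂
  letI : Module A N₃ := Module.compHom N₃ α₃
  letI : Module B N₁' := Module.compHom N₁' β₁
  letI : Module B N₂' := Module.compHom N₂' β₂
  letI : Module B N₃' := Module.compHom N₃' β₃
  obtain ⟨g₁, hg₁, hg₁'⟩ := slbc_restrict φ hsq₁ hf₁
  obtain ⟨g₂, hg₂, hg₂'⟩ := slbc_restrict φ hsq₂ hf₂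
  obtain ⟨g₃, hg₃, hg₃'⟩ := slbc_restrict φ hsq₃ hf₃
  let L₁₂ : N₁ →ₗ[A] N₂ := { toFun := l₁₂, map_add' := l₁₂.map_add, map_smul' := hl₁₂ }
  let L₂₃ : N₂ →ₗ[A] N₃ := { toFun := l₂₃, map_add' := l₂₃.map_add, map_smul' := hl₂₃ }
  let L₁₂' : N₁' →ₗ[B] N₂' := { toFun := l₁₂', map_add' := l₁₂'.map_add, map_smul' := hl₁₂' }
  let L₂₃' : N₂' →ₗ[B] N₃' := { toFun := l₂₃', map_add' := l₂₃'.map_add, map_smul' := hl₂₃' }
  exact exact_descent φ hfl hsurj g₁ g₂ g₃ hg₁' hg₂' hg₃' L₁₂ L₂₃ L₁₂' L₂₃'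
    (fun n => by rw [hg₂, hg₁]; exact hc₁₂ n) (fun n => by rw [hg₃, hg₂]; exact hc₂₃ n)
    hex x hx

end

end Groth.Agent.Lib.Helper21.EtCartan
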