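import Groth.Agent.Lib.Helper21.EtCartan.EtPushVanish

set_option autoImplicit false
set_option linter.style.haveILetI false
set_option linter.unusedSimpArgs false
set_option backward.isDefEq.respectTransparency false
universe u
open CategoryTheory CategoryTheory.Limits Opposite AlgebraicGeometry AlgSp

namespace Groth.Agent.Lib.Helper21.EtCartan

open Groth.Agent.Lib.Helper21.Tilde

variable {S : Scheme.{u}} {X Y : Sp S} {f : X ⟶ Y} (hf : Representable f)

/-- The ring map `O_Y(V) ⟶ O_X(V ×_Y X)`. -/
noncomputable def bcR (V : EtOver Y) :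
    (OEtRing Y).obj.obj (op V) →+* (OEtRing X).obj.obj (op ((EtOver.bc hf).obj V)) :=
  ((bcRingHom hf).hom.app (op V)).hom

theorem bcR_apply (V : EtOver Y) (s : (OEtRing Y).obj.obj (op V)) :
    bcR hf V s = ULift.up ((EtOver.bcπ hf V).left.appTop.hom s.down) := rfl

/-- The pushout square of rings of sections attached to the base change of a morphism of affine
objects along an affine morphism. -/
theorem pushoutSq_bc {V V' : EtOver Y} (g : V' ⟶ V) (hV : IsAffine V.obj.left.left)
    (hV' : IsAffine V'.obj.left.left) (hbV : IsAffine ((EtOver.bc hf).obj V).obj.left.left) :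
    PushoutSq ((OEtRing Y).obj.map g.op).hom (bcR hf V) (bcR hf V')
      ((OEtRing X).obj.map ((EtOver.bc hf).map g).op).hom := by
  have hsch := (EtOver.isPullback_bcMap_left hf g).flip
  haveI : IsAffine (EtOver.bcObj hf V).obj.left.left := hbV
  have hpo := isPushout_appTop_of_isPullback hsch
  have h1 := pushoutSq_of_isPushout hpo
  exact PushoutSq.transport h1
    (eA := (ULift.ringEquiv.symm : Γ(V.obj.left.left, ⊤) ≃+* ULift.{u+1} Γ(V.obj.left.left, ⊤)).toRingHom)
    (RingEquiv.bijective _)
    (eB := (ULift.ringEquiv.symm : Γ(V'.obj.left.left, ⊤) ≃+* ULift.{u+1} Γ(V'.obj.left.left, ⊤)).toRingHom)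
    (RingEquiv.bijective _)
    (eA' := (ULift.ringEquiv.symm : Γ((EtOver.bcObj hf V).obj.left.left, ⊤) ≃+*
      ULift.{u+1} Γ((EtOver.bcObj hf V).obj.left.left, ⊤)).toRingHom)
    (RingEquiv.bijective _)
    (eB' := (ULift.ringEquiv.symm : Γ((EtOver.bcObj hf V').obj.left.left, ⊤) ≃+*
      ULift.{u+1} Γ((EtOver.bcObj hf V').obj.left.left, ⊤)).toRingHom)
    (RingEquiv.bijective _)
    (fun _ => rfl) (fun _ => rfl) (fun _ => rfl) (fun _ => rfl)

/-- **Direct images along affine morphisms preserve the base change property** (hence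
quasi-coherence). -/
theorem isBCEt_pushModEt (haff : IsAffineMor f) (M : ModEt X) (hM : IsBCEt M) :
    IsBCEt ((pushModEt hf).obj M) := by
  intro V V' g hV hV'
  have hbV := isAffine_bcObj hf haff V hV
  have hbV' := isAffine_bcObj hf haff V' hV'
  have hsq := pushoutSq_bc hf g hV hV' hbV
  have h1 := hM ((EtOver.bc hf).map g) hbV hbV'
  letI i1 : Module ((OEtRing Y).obj.obj (op V)) (M.val.obj (op ((EtOver.bc hf).obj V))) :=
    Module.compHom _ (bcR hf V)
  letI i2 : Module ((OEtRing Y).obj.obj (op V')) (M.val.obj (op ((EtOver.bc hf).obj V'))) :=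
    Module.compHom _ (bcR hf V')
  let f₀ : M.val.obj (op ((EtOver.bc hf).obj V)) →ₛₗ[((OEtRing Y).obj.map g.op).hom]
      M.val.obj (op ((EtOver.bc hf).obj V')) :=
    { toFun := M.val.map ((EtOver.bc hf).map g).op
      map_add' := fun x y => map_add _ x y
      map_smul' := fun a x => by
        change M.val.map ((EtOver.bc hf).map g).op (bcR hf V a • x) =
          bcR hf V' (((OEtRing Y).obj.map g.op).hom a) • M.val.map ((EtOver.bc hf).map g).op x
        rw [PresheafOfModules.map_smul, hsq.1 a] }
  have key := SLBC.of_pushoutSq hsq h1 (fun _ _ => rfl) (fun _ _ => rfl) f₀ (fun _ => rfl)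
  exact key

end Groth.Agent.Lib.Helper21.EtCartan
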