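import Mathlib
set_option autoImplicit false
universe w w' v₁ v₂ u₁ u₂
open CategoryTheory CategoryTheory.Limits Opposite Abelian

namespace Groth.Agent.Lib.Helper21.EtCartan

/-- `Ext¹(P, A) = 0` follows from `Ext¹(P', Φ A) = 0` if `Hom(P, -) ≃ Hom(P', Φ -)` naturally and `Φ` keeps an
injective embedding of `A` short exact. -/
theorem subsingleton_ext_one_of_push {𝒞 : Type u₁} [Category.{v₁} 𝒞] [Abelian 𝒞] [HasExt.{w} 𝒞]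
    {𝒟 : Type u₂} [Category.{v₂} 𝒟] [Abelian 𝒟] [HasExt.{w'} 𝒟]
    (Φ : 𝒞 ⥤ 𝒟) [Φ.PreservesZeroMorphisms] (P : 𝒞) (P' : 𝒟)
    (γ : ∀ G : 𝒞, (P ⟶ G) → (P' ⟶ Φ.obj G)) (hγ : ∀ G, Function.Bijective (γ G))
    (hγn : ∀ (G G' : 𝒞) (φ : P ⟶ G) (g : G ⟶ G'), γ G' (φ ≫ g) = γ G φ ≫ Φ.map g)
    (T : ShortComplex 𝒞) (hT : T.ShortExact) (hI : Injective T.X₂) (hΦT : (T.map Φ).ShortExact)
    (h1 : Subsingleton (Ext P' (Φ.obj T.X₁) 1)) : Subsingleton (Ext P T.X₁ 1) := by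
  refine subsingleton_of_forall_eq 0 (fun x => ?_)
  have hx : x.comp (Ext.mk₀ T.f) (add_zero 1) = 0 := Ext.eq_zero_of_injective _
  obtain ⟨q, hq⟩ := Ext.covariant_sequence_exact₁ P hT x hx (zero_add 1)
  obtain ⟨q₀, rfl⟩ := Ext.addEquiv₀.symm.surjective q
  -- transport to `𝒟`
  have hz : (Ext.mk₀ (γ _ q₀)).comp hΦT.extClass (zero_add 1) = 0 := h1.elim _ _
  obtain ⟨i', hi'⟩ := Ext.covariant_sequence_exact₃ P' hΦT (Ext.mk₀ (γ _ q₀)) (zero_add 1) hz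
  obtain ⟨i₀', rfl⟩ := Ext.addEquiv₀.symm.surjective i'
  obtain ⟨i₀, rfl⟩ := (hγ _).2 i₀'
  have e1 : γ _ (i₀ ≫ T.g) = γ _ q₀ := by
    rw [hγn]
    have h2 : (Ext.mk₀ (γ T.X₂ i₀)).comp (Ext.mk₀ (T.map Φ).g) (add_zero 0) =
        Ext.mk₀ (γ T.X₃ q₀) := hi'
    rw [Ext.mk₀_comp_mk₀] at h2
    exact Ext.addEquiv₀.symm.injective h2
  have e2 : i₀ ≫ T.g = q₀ := (hγ _).1 e1
  rw [← hq]
  change (Ext.mk₀ q₀).comp _ _ = 0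
  rw [← e2, ← Ext.mk₀_comp_mk₀, Ext.comp_assoc_of_second_deg_zero, hT.comp_extClass, Ext.comp_zero]

end Groth.Agent.Lib.Helper21.EtCartan
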