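import Groth.Agent.Lib.Helper21.EtCartan.EtGlobal
import Groth.Agent.Lib.Helper21.EtCartan.ExtPush
import Groth.Agent.Lib.Helper21.EtCartan.EtPushMod

set_option autoImplicit false
set_option linter.style.haveILetI false
set_option linter.unusedSimpArgs false
set_option backward.isDefEq.respectTransparency false
universe u
open CategoryTheory CategoryTheory.Limits Opposite AlgebraicGeometry AlgSp

namespace Groth.Agent.Lib.Helper21.EtCartan

open Groth.Agent.Lib.Helper21.Tilde Groth.Agent.Lib.Helper44.BigCech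

variable {S : Scheme.{u}} {X Y : Sp S} {f : X ⟶ Y} (hf : Representable f)

/-- `H¹(X, M) = 0` for quasi-coherent `M` if `H¹(Y, f_* M) = 0`, for `f` affine. -/
theorem subsingleton_H1_of_isAffineMor (haff : IsAffineMor f) (hY : IsAlgSpace Y)
    (M : ModEt X) (hM : IsBCEt M)
    (h1 : Subsingleton (HEt Y ((pushEt hf AddCommGrpCat.{u + 1}).obj ((toAbEt X).obj M)) 1)) :
    Subsingleton (HModEt X M 1) := by
  obtain ⟨T, hT, hT1, hI, hQ, hs⟩ := cartan_class_step (etTop X) (affSet X) CovEt covEt_h1
    covEt_h2 ((toAbEt X).obj M) (cechAcyclic_of_isBCEt M hM)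
  have hepi : Epi ((pushEt hf AddCommGrpCat.{u + 1}).map T.g) :=
    epi_pushEt_map hf haff T.g (fun V hV => hs V V hV (Iso.refl _))
  have hmono : Mono ((pushEt hf AddCommGrpCat.{u + 1}).map T.f) := by
    have := hT.mono_f
    infer_instance
  have hΦT : (T.map (pushEt hf AddCommGrpCat.{u + 1})).ShortExact :=
    ShortComplex.ShortExact.mk'
      (hT.exact.map_of_mono_of_preservesKernel _ hT.mono_f inferInstance) hmono hepi
  have key := subsingleton_ext_one_of_push (pushEt hf AddCommGrpCat.{u + 1})
    ((constantSheaf (etTop X) AddCommGrpCat.{u + 1}).obj (AddCommGrpCat.of (ULift ℤ)))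
    ((constantSheaf (etTop Y) AddCommGrpCat.{u + 1}).obj (AddCommGrpCat.of (ULift ℤ)))
    (gsPush hf _) (gsPush_bijective hf hY _) (fun G G' φ g => gsPush_comp hf _ φ g)
    T hT hI hΦT (by rw [hT1]; exact h1)
  rw [hT1] at key
  exact key

end Groth.Agent.Lib.Helper21.EtCartan
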