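import Groth.Agent.Lib.Helper21.EtCartan.CechNerve
import Groth.Agent.Lib.Helper21.EtCartan.DescentExact
import Groth.Agent.Lib.Helper21.TildeEtExt
import Groth.Agent.Lib.Helper44.BigCartan2

set_option autoImplicit false
set_option linter.style.haveILetI false
set_option linter.unusedSimpArgs false
set_option backward.isDefEq.respectTransparency false
universe u
open CategoryTheory CategoryTheory.Limits Opposite AlgebraicGeometry AlgSp

namespace Groth.Agent.Lib.Helper21.EtCartan

open Groth.Agent.Lib.Helper21.Tilde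

variable {S : Scheme.{u}} {X : Sp S}

instance hasFiniteProducts_over_et (U : EtOver X) : HasFiniteProducts (Over U) :=
  have : HasBinaryProducts (Over U) := Over.ConstructProducts.over_binaryProduct_of_pullback
  have : HasTerminal (Over U) := Over.over_hasTerminal U
  hasFiniteProducts_of_has_binary_and_terminal

/-- Affineness of objects of the small etale site is invariant under isomorphism. -/
theorem isAffine_of_iso {E E' : EtOver X} (e : E ≅ E') (h : IsAffine E'.obj.left.left) :
    IsAffine E.obj.left.left := by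
  have e' : E.obj.left.left ≅ E'.obj.left.left := (EtOver.toScheme X).mapIso e
  exact IsAffine.of_isIso e'.hom

/-- Any pullback square of affine objects gives a pushout square of rings of sections. -/
theorem pushoutSq_of_isPullback {P W V E : EtOver X} {p : P ⟶ W} {q : P ⟶ V} {a : W ⟶ E}
    {b : V ⟶ E} (h : IsPullback p q a b) (hW : IsAffine W.obj.left.left)
    (hE : IsAffine E.obj.left.left) (hV : IsAffine V.obj.left.left) :
    IsAffine P.obj.left.left ∧
      PushoutSq ((OEtRing X).obj.map a.op).hom ((OEtRing X).obj.map b.op).hom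
        ((OEtRing X).obj.map p.op).hom ((OEtRing X).obj.map q.op).hom := by
  obtain ⟨P', p', q', h', hP', hsq'⟩ := pb_OEtRing a b hW hE hV
  let e : P ≅ P' := h.isoIsPullback _ _ h'
  have hep : e.hom ≫ p' = p := IsPullback.isoIsPullback_hom_fst _ _ h h'
  have heq : e.hom ≫ q' = q := IsPullback.isoIsPullback_hom_snd _ _ h h'
  refine ⟨isAffine_of_iso e hP', ?_⟩
  have hbij : Function.Bijective ((OEtRing X).obj.map e.hom.op).hom := by
    have : IsIso ((OEtRing X).obj.map e.hom.op) := inferInstance
    exact ConcreteCategory.bijective_of_isIso ((OEtRing X).obj.map e.hom.op)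
  refine PushoutSq.transport hsq' (eA := RingHom.id _) Function.bijective_id
    (eB := RingHom.id _) Function.bijective_id (eA' := RingHom.id _) Function.bijective_id
    (eB' := ((OEtRing X).obj.map e.hom.op).hom) hbij (fun _ => rfl) (fun _ => rfl) ?_ ?_
  · intro b
    rw [← hep, op_comp, Functor.map_comp]
    rfl
  · intro b
    rw [← heq, op_comp, Functor.map_comp]
    rfl


section Cech
variable {U : EtOver X} (W : Over U)

/-- The pullback square `W^{m+1} = W ×_U W^m`. -/
theorem isPullback_Zp (m : ℕ) :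
    IsPullback (Pi.π (fun _ : Fin (m + 1) => W) 0).left (fc W m 0).left W.hom (Zp W m).hom :=
  Over.isPullback_of_binaryFan_isLimit _ (isLimitBinaryFan W m)

/-- The powers of an affine object over an affine object are affine. -/
theorem isAffine_Zp (hU : IsAffine U.obj.left.left) (hW : IsAffine W.left.obj.left.left)
    (m : ℕ) : IsAffine (Zp W (m + 1)).left.obj.left.left := by
  induction m with
  | zero =>
    have e : Zp W 1 ≅ W := productUniqueIso (fun _ : Fin 1 => W)
    exact isAffine_of_iso ((Over.forget U).mapIso e) hW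
  | succ m ih =>
    exact (pushoutSq_of_isPullback (isPullback_Zp W (m + 1)) hW hU ih).1


variable (M : ModEt X)

/-- Restriction of sections of a module is semilinear over a commutative triangle. -/
theorem map_smul_tri {E E' T : EtOver X} (g : E' ⟶ E) (t : E ⟶ T) (t' : E' ⟶ T) (h : g ≫ t = t')
    (b : (OEtRing X).obj.obj (op T)) (n : M.val.obj (op E)) :
    M.val.map g.op (((OEtRing X).obj.map t.op).hom b • n) =
      ((OEtRing X).obj.map t'.op).hom b • M.val.map g.op n := by
  rw [PresheafOfModules.map_smul]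
  congr 1
  change ((OEtRing X).obj.map t.op ≫ (OEtRing X).obj.map g.op).hom b = _
  rw [← Functor.map_comp, ← op_comp, h]

open Groth.Agent.Lib.Helper44.BigCech in
/-- The presheaf on `Over U` underlying a module. -/
noncomputable abbrev PM : (Over U)ᵒᵖ ⥤ AddCommGrpCat.{u + 1} :=
  sPU (U := U) ((toAbEt X).obj M).obj

theorem PM_map_apply {V V' : Over U} (g : V' ⟶ V) (x : M.val.obj (op V.left)) :
    (PM (U := U) M).map g.op x = M.val.map g.left.op x := rfl


/-- The Čech differential on sections of the module. -/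
noncomputable def dCM (m : ℕ) :
    M.val.obj (op (Zp W m).left) →+ M.val.obj (op (Zp W (m + 1)).left) :=
  dC W (PM M) m

/-- The décalage differential on sections of the module. -/
noncomputable def dDM (m : ℕ) :
    M.val.obj (op (Zp W (m + 1)).left) →+ M.val.obj (op (Zp W (m + 2)).left) :=
  dD W (PM M) m

theorem dCM_apply (m : ℕ) (x : M.val.obj (op (Zp W m).left)) :
    dCM W M m x = ∑ k : Fin (m + 1), ((-1 : ℤ) ^ (k : ℕ)) • M.val.map (fc W m k).left.op x :=
  dC_apply W (PM M) m x

theorem dDM_apply (m : ℕ) (x : M.val.obj (op (Zp W (m + 1)).left)) :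
    dDM W M m x =
      ∑ k : Fin (m + 1), ((-1 : ℤ) ^ (k : ℕ)) • M.val.map (fc W (m + 1) k.succ).left.op x :=
  dD_apply W (PM M) m x

/-- The Čech differential is linear over the ring of the base object. -/
theorem dCM_smul (m : ℕ) (a : (OEtRing X).obj.obj (op U)) (n : M.val.obj (op (Zp W m).left)) :
    dCM W M m (((OEtRing X).obj.map (Zp W m).hom.op).hom a • n) =
      ((OEtRing X).obj.map (Zp W (m + 1)).hom.op).hom a • dCM W M m n := by
  rw [dCM_apply, dCM_apply, Finset.smul_sum]
  refine Finset.sum_congr rfl (fun k _ => ?_)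
  rw [map_smul_tri M (fc W m k).left (Zp W m).hom (Zp W (m + 1)).hom (Over.w _), smul_comm]

/-- The differential of the décalage is linear over the ring of the covering object. -/
theorem dDM_smul (m : ℕ) (b : (OEtRing X).obj.obj (op W.left))
    (n : M.val.obj (op (Zp W (m + 1)).left)) :
    dDM W M m (((OEtRing X).obj.map (Pi.π (fun _ : Fin (m + 1) => W) 0).left.op).hom b • n) =
      ((OEtRing X).obj.map (Pi.π (fun _ : Fin (m + 2) => W) 0).left.op).hom b • dDM W M m n := by
  rw [dDM_apply, dDM_apply, Finset.smul_sum]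
  refine Finset.sum_congr rfl (fun k _ => ?_)
  have hk : (fc W (m + 1) k.succ).left ≫ (Pi.π (fun _ : Fin (m + 1) => W) 0).left =
      (Pi.π (fun _ : Fin (m + 2) => W) 0).left := by
    rw [← Over.comp_left, fc_π, Fin.succ_succAbove_zero]
  rw [map_smul_tri M (fc W (m + 1) k.succ).left _ _ hk, smul_comm]


/-- **Čech acyclicity**: for a module with the base change property, the Čech complex of a
single flat covering `W ⟶ U` of affine objects which is surjective on spectra is exact in
positive degrees. -/
theorem cech_exact (hM : IsBCEt M) (hU : IsAffine U.obj.left.left)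
    (hW : IsAffine W.left.obj.left.left)
    (hsurj : ∀ p : PrimeSpectrum ((OEtRing X).obj.obj (op U)),
      ∃ q : PrimeSpectrum ((OEtRing X).obj.obj (op W.left)),
        q.comap ((OEtRing X).obj.map W.hom.op).hom = p)
    (p : ℕ) (s0 : (PM M).obj (op (Zp W (p + 2)))) (hs : dC W (PM M) (p + 2) s0 = 0) :
    ∃ t0 : (PM M).obj (op (Zp W (p + 1))), dC W (PM M) (p + 1) t0 = s0 := by
  have haff := isAffine_Zp W hU hW
  exact exact_descent_sq (φ := ((OEtRing X).obj.map W.hom.op).hom)
    (flat_OEtRing_map W.hom hU hW) hsurj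
    (α₁ := ((OEtRing X).obj.map (Zp W (p + 1)).hom.op).hom)
    (α₂ := ((OEtRing X).obj.map (Zp W (p + 2)).hom.op).hom)
    (α₃ := ((OEtRing X).obj.map (Zp W (p + 3)).hom.op).hom)
    (β₁ := ((OEtRing X).obj.map (Pi.π (fun _ : Fin (p + 2) => W) 0).left.op).hom)
    (β₂ := ((OEtRing X).obj.map (Pi.π (fun _ : Fin (p + 3) => W) 0).left.op).hom)
    (β₃ := ((OEtRing X).obj.map (Pi.π (fun _ : Fin (p + 4) => W) 0).left.op).hom)
    (ψ₁ := ((OEtRing X).obj.map (fc W (p + 1) 0).left.op).hom)
    (ψ₂ := ((OEtRing X).obj.map (fc W (p + 2) 0).left.op).hom)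
    (ψ₃ := ((OEtRing X).obj.map (fc W (p + 3) 0).left.op).hom)
    (pushoutSq_of_isPullback (isPullback_Zp W (p + 1)) hW hU (haff p)).2
    (pushoutSq_of_isPullback (isPullback_Zp W (p + 2)) hW hU (haff (p + 1))).2
    (pushoutSq_of_isPullback (isPullback_Zp W (p + 3)) hW hU (haff (p + 2))).2
    (f₁ := M.val.restrictₛₗ (fc W (p + 1) 0).left.op)
    (f₂ := M.val.restrictₛₗ (fc W (p + 2) 0).left.op)
    (f₃ := M.val.restrictₛₗ (fc W (p + 3) 0).left.op)
    (hM (fc W (p + 1) 0).left (haff p) (haff (p + 1)))
    (hM (fc W (p + 2) 0).left (haff (p + 1)) (haff (p + 2)))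
    (hM (fc W (p + 3) 0).left (haff (p + 2)) (haff (p + 3)))
    (dCM W M (p + 1)) (dCM W M (p + 2)) (dDM W M (p + 1)) (dDM W M (p + 2))
    (dCM_smul W M (p + 1)) (dCM_smul W M (p + 2)) (dDM_smul W M (p + 1)) (dDM_smul W M (p + 2))
    (fun n => (dD_face_zero W (PM M) (p + 1) n).symm)
    (fun n => (dD_face_zero W (PM M) (p + 2) n).symm)
    (fun z hz => dD_exact W (PM M) (p + 1) z hz) s0 hs


open Groth.Agent.Lib.Lead Groth.Agent.Lib.Helper44.BigCech in
/-- Čech acyclicity in the form used by Cartan's criterion. -/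
theorem cech_acyclic (hM : IsBCEt M) (hU : IsAffine U.obj.left.left)
    (hW : IsAffine W.left.obj.left.left)
    (hsurj : ∀ p : PrimeSpectrum ((OEtRing X).obj.obj (op U)),
      ∃ q : PrimeSpectrum ((OEtRing X).obj.obj (op W.left)),
        q.comap ((OEtRing X).obj.map W.hom.op).hom = p)
    (p : ℕ) :
    IsZero ((gCx (single W) (sPU (U := U) ((toAbEt X).obj M).obj)).homology (p + 1)) := by
  rw [isZero_gH_succ_iff]
  intro c hc
  have hc0 := congrFun hc (fun _ : Fin (p + 1 + 2) => PUnit.unit)
  have hs : dC W (PM M) (p + 2) (c (fun _ : Fin (p + 1 + 1) => PUnit.unit)) = 0 :=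
    (dC_apply W (PM M) (p + 2) _).trans hc0
  obtain ⟨t0, ht0⟩ := cech_exact W M hM hU hW hsurj p _ hs
  refine ⟨fun _ => t0, ?_⟩
  funext y
  exact (dC_apply W (PM M) (p + 1) t0).symm.trans ht0

end Cech

end Groth.Agent.Lib.Helper21.EtCartan
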