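import Groth.Agent.Lib.Helper21.EtCartan.EtCech

set_option autoImplicit false
set_option linter.style.haveILetI false
set_option linter.unusedSimpArgs false
set_option backward.isDefEq.respectTransparency false
universe u
open CategoryTheory CategoryTheory.Limits Opposite AlgebraicGeometry AlgSp

namespace Groth.Agent.Lib.Helper21.EtCartan

section Generic
variable {C : Type (u + 1)} [Category.{u} C] {J : GrothendieckTopology C}
  (G : Sheaf J AddCommGrpCat.{u + 1})

theorem isSheaf_type : Presieve.IsSheaf J (G.obj ⋙ forget AddCommGrpCat.{u + 1}) :=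
  (isSheaf_iff_isSheaf_of_type _ _).1
    ((Presheaf.isSheaf_iff_isSheaf_forget J G.obj (forget AddCommGrpCat.{u + 1})).1 G.property)

/-- Sections over an object covered by the empty sieve are unique. -/
theorem subsingleton_of_bot_mem {Z : C} (hZ : (⊥ : Sieve Z) ∈ J Z) :
    Subsingleton (G.obj.obj (op Z)) := by
  have hs := (isSheaf_type G _ hZ).isSeparatedFor
  refine ⟨fun x y => ?_⟩
  refine hs.ext (t₁ := x) (t₂ := y) ?_
  intro Y f hf
  exact hf.elim

/-- Sections agreeing on a covering family are equal. -/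
theorem sep_ofArrows {W : C} {ι : Type*} (Y : ι → C) (e : ∀ i, Y i ⟶ W)
    (hcov : Sieve.ofArrows Y e ∈ J W) (x y : G.obj.obj (op W))
    (hxy : ∀ i, G.obj.map (e i).op x = G.obj.map (e i).op y) : x = y := by
  have hs := ((Presieve.isSheafFor_iff_generate _).2 (isSheaf_type G _ hcov)).isSeparatedFor
  refine hs.ext (t₁ := x) (t₂ := y) ?_
  intro Z g hg
  obtain ⟨i⟩ := hg
  exact hxy i

/-- Gluing of sections along a covering by pairwise disjoint monomorphisms. -/
theorem glue_disjoint {W : C} {ι : Type*} (Y : ι → C) (e : ∀ i, Y i ⟶ W)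
    (hcov : Sieve.ofArrows Y e ∈ J W) (hmono : ∀ i, Mono (e i))
    (hdisj : ∀ i j, i ≠ j → ∀ (Z : C) (gi : Z ⟶ Y i) (gj : Z ⟶ Y j),
      gi ≫ e i = gj ≫ e j → (⊥ : Sieve Z) ∈ J Z)
    (t : ∀ i, G.obj.obj (op (Y i))) :
    ∃ t' : G.obj.obj (op W), ∀ i, G.obj.map (e i).op t' = t i := by
  have hs := (Presieve.isSheafFor_arrows_iff _ _).1
    ((Presieve.isSheafFor_iff_generate _).2 (isSheaf_type G _ hcov))
  have hcompat : Presieve.Arrows.Compatible (G.obj ⋙ forget AddCommGrpCat.{u + 1}) e
      (fun j => (show (G.obj ⋙ forget AddCommGrpCat.{u + 1}).obj (op (Y j)) from t j)) := by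
    intro i j Z gi gj hg
    by_cases hij : i = j
    · subst hij
      have := hmono i
      rw [(cancel_mono (e i)).1 hg]
    · have := subsingleton_of_bot_mem G (hdisj i j hij Z gi gj hg)
      exact Subsingleton.elim (α := G.obj.obj (op Z)) _ _
  obtain ⟨t', ht', -⟩ := hs _ hcompat
  exact ⟨t', ht'⟩

end Generic


section Et
variable {S : Scheme.{u}} {X : Sp S}

/-- An object with empty underlying scheme is covered by the empty sieve. -/
theorem bot_mem_etTop_of_isEmpty (Z : EtOver X) (hZ : IsEmpty Z.obj.left.left) :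
    (⊥ : Sieve Z) ∈ etTop X Z := by
  have hcov : Sieve.ofArrows (fun i : PEmpty.{1} => (i.elim : EtOver X)) (fun i => i.elim) ∈
      etTop X Z :=
    ofArrows_mem_etTop _ _ fun x => (hZ.false x).elim
  refine (etTop X).superset_covering ?_ hcov
  rw [Sieve.ofArrows, Sieve.generate_le_iff]
  rintro _ _ ⟨i⟩
  exact i.elim

section Sigma
variable {U : EtOver X} {n : ℕ} (Y : Fin n → EtOver X) (g : ∀ k, Y k ⟶ U)

/-- The disjoint union of the underlying schemes, mapping to `U`. -/
noncomputable def sigmaDesc : (∐ fun k => (Y k).obj.left.left) ⟶ U.obj.left.left :=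
  Sigma.desc (fun k => (g k).hom.left.left)

instance etale_sigmaDesc : Etale (sigmaDesc Y g) :=
  IsZariskiLocalAtSource.sigmaDesc (fun k => EtOver.etale_left (g k))

/-- The disjoint union as a scheme over `S`. -/
noncomputable def sigmaOver : Over S := Over.mk (sigmaDesc Y g ≫ U.obj.left.hom)

noncomputable def sigmaOverHom : sigmaOver Y g ⟶ U.obj.left := Over.homMk (sigmaDesc Y g) rfl

/-- The disjoint union as an object of the small etale site. -/
noncomputable def sigmaObj : EtOver X :=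
  EtOver.mk ((yon S).map (sigmaOverHom Y g) ≫ U.obj.hom)
    ((repWith_isMultiplicative (S := S) @Etale).comp_mem _ _
      ((repWith_yon_map_iff _ _).2 (etale_sigmaDesc Y g)) U.property)

noncomputable def sigmaHom : sigmaObj Y g ⟶ U := EtOver.homMk (sigmaOverHom Y g) rfl

noncomputable def sigmaIn (k : Fin n) : Y k ⟶ sigmaObj Y g :=
  EtOver.homMk (Over.homMk (Sigma.ι (fun k => (Y k).obj.left.left) k) (by
    change Sigma.ι (fun k => (Y k).obj.left.left) k ≫ sigmaDesc Y g ≫ U.obj.left.hom = _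
    rw [sigmaDesc, Sigma.ι_desc_assoc]
    exact Over.w (g k).hom.left)) (by
    change (yon S).map _ ≫ (yon S).map (sigmaOverHom Y g) ≫ U.obj.hom = _
    rw [← Category.assoc, ← Functor.map_comp]
    have : (Over.homMk (Sigma.ι (fun k => (Y k).obj.left.left) k) (by
        change Sigma.ι (fun k => (Y k).obj.left.left) k ≫ sigmaDesc Y g ≫ U.obj.left.hom = _
        rw [sigmaDesc, Sigma.ι_desc_assoc]
        exact Over.w (g k).hom.left) : (Y k).obj.left ⟶ sigmaOver Y g) ≫ sigmaOverHom Y g =
        (g k).hom.left := by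
      apply Over.OverMorphism.ext
      change Sigma.ι (fun k => (Y k).obj.left.left) k ≫ sigmaDesc Y g = _
      rw [sigmaDesc, Sigma.ι_desc]
    rw [this]
    exact EtOver.w (g k))

theorem sigmaIn_hom (k : Fin n) : sigmaIn Y g k ≫ sigmaHom Y g = g k := by
  apply EtOver.hom_ext
  apply Over.OverMorphism.ext
  change Sigma.ι (fun k => (Y k).obj.left.left) k ≫ sigmaDesc Y g = _
  rw [sigmaDesc, Sigma.ι_desc]

theorem sigmaIn_left (k : Fin n) :
    (sigmaIn Y g k).hom.left.left = Sigma.ι (fun k => (Y k).obj.left.left) k := rfl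

theorem isAffine_sigmaObj (hY : ∀ k, IsAffine (Y k).obj.left.left) :
    IsAffine (sigmaObj Y g).obj.left.left := by
  change IsAffine (∐ fun k => (Y k).obj.left.left)
  infer_instance

theorem sigmaIn_cover : Sieve.ofArrows Y (sigmaIn Y g) ∈ etTop X (sigmaObj Y g) := by
  refine ofArrows_mem_etTop _ _ fun x => ?_
  obtain ⟨k, y, hy⟩ := (sigmaOpenCover (fun k => (Y k).obj.left.left)).exists_eq x
  exact ⟨k, y, hy⟩

end Sigma


open Groth.Agent.Lib.Helper21.WeakAss in
/-- A covering sieve of an affine object contains a finite jointly surjective family of affine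
objects. -/
theorem cover_etTop_pt {E : EtOver X} (T : Sieve E) (hE : IsAffine E.obj.left.left)
    (hT : T ∈ etTop X E) :
    ∃ (n : ℕ) (Y : Fin n → EtOver X) (g : ∀ k, Y k ⟶ E), (∀ k, IsAffine (Y k).obj.left.left) ∧
      (∀ k, T (g k)) ∧ ∀ x : E.obj.left.left, ∃ k, x ∈ Set.range (g k).hom.left.left := by
  rw [etTop, Precoverage.mem_toGrothendieck_iff_of_isStableUnderComposition] at hT
  obtain ⟨R', hR', hle⟩ := hT
  obtain ⟨ι, Z, f, rfl⟩ := R'.exists_eq_ofArrows
  rw [ofArrows_mem_etPre_iff] at hR'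
  have hpt : ∀ x : E.obj.left.left, ∃ (i : ι) (A : (Z i).obj.left.left.affineOpens),
      x ∈ Set.range (openObjι (Z i) A.1 ≫ f i).hom.left.left := by
    intro x
    obtain ⟨i, z, hz⟩ := hR' x
    obtain ⟨_, ⟨A, hA, rfl⟩, hzA, -⟩ :=
      ((Z i).obj.left.left.isBasis_affineOpens).exists_subset_of_mem_open (Set.mem_univ z)
        isOpen_univ
    exact ⟨i, ⟨A, hA⟩, ⟨⟨z, hzA⟩, hz⟩⟩
  choose i A hx using hpt
  let V : E.obj.left.left → Set E.obj.left.left := fun x =>
    Set.range (openObjι (Z (i x)) (A x).1 ≫ f (i x)).hom.left.left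
  have hVopen : ∀ x, IsOpen (V x) := fun x => by
    have : Etale (openObjι (Z (i x)) (A x).1 ≫ f (i x)).hom.left.left := EtOver.etale_left _
    exact (Scheme.Hom.isOpenMap _).isOpen_range
  have hcomp : CompactSpace E.obj.left.left := inferInstance
  obtain ⟨t, ht⟩ := isCompact_univ.elim_finite_subcover V hVopen
    (fun x _ => Set.mem_iUnion.2 ⟨x, hx x⟩)
  let e : Fin t.card ≃ t := t.equivFin.symm
  let Y : Fin t.card → EtOver X := fun k => openObj (Z (i (e k).1)) (A (e k).1).1
  let g : ∀ k, Y k ⟶ E := fun k => openObjι (Z (i (e k).1)) (A (e k).1).1 ≫ f (i (e k).1)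
  have hsurj : ∀ x : E.obj.left.left, ∃ k, x ∈ Set.range (g k).hom.left.left := by
    intro x
    have := ht (Set.mem_univ x)
    simp only [Set.mem_iUnion] at this
    obtain ⟨x', hx't, hxx'⟩ := this
    refine ⟨e.symm ⟨x', hx't⟩, ?_⟩
    change x ∈ Set.range (openObjι (Z (i (e (e.symm ⟨x', hx't⟩)).1))
      (A (e (e.symm ⟨x', hx't⟩)).1).1 ≫ f (i (e (e.symm ⟨x', hx't⟩)).1)).hom.left.left
    rw [Equiv.apply_symm_apply]
    exact hxx'
  have hYaff : ∀ k, IsAffine (Y k).obj.left.left := fun k => (A (e k).1).2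
  refine ⟨t.card, Y, g, hYaff, fun k => ?_, hsurj⟩
  exact Sieve.downward_closed _ (hle _ _ (Presieve.ofArrows.mk (i (e k).1))) _

/-- The coverings used in Cartan's criterion: a single surjective morphism of affine
objects. -/
def CovEt (U : EtOver X) (W : Over U) : Prop :=
  IsAffine U.obj.left.left ∧ IsAffine W.left.obj.left.left ∧
    ∀ x : U.obj.left.left, x ∈ Set.range W.hom.hom.left.left

/-- Local lifting of sections along an epimorphism of abelian sheaves, over a single affine
covering. -/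
theorem local_lift {G H : AbEt X} (π : G ⟶ H) [Epi π] (U : EtOver X)
    (hU : IsAffine U.obj.left.left) (s : H.obj.obj (op U)) :
    ∃ W : Over U, CovEt U W ∧
      ∃ t : G.obj.obj (op W.left), π.hom.app (op W.left) t = H.obj.map W.hom.op s := by
  have hls : Sheaf.IsLocallySurjective π :=
    (Sheaf.isLocallySurjective_iff_epi' (φ := π)).2 inferInstance
  have h1 := Presheaf.imageSieve_mem (etTop X) π.hom s
  obtain ⟨n, Y, g, hY, hT, hsurj⟩ := cover_etTop_pt _ hU h1
  choose t ht using hT
  have hmono : ∀ k, Mono (sigmaIn Y g k) := by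
    intro k
    have : Mono ((EtOver.toScheme X).map (sigmaIn Y g k)) := by
      change Mono (Sigma.ι (fun k => (Y k).obj.left.left) k)
      infer_instance
    exact (EtOver.toScheme X).mono_of_mono_map this
  have hdisj : ∀ i j, i ≠ j → ∀ (Z : EtOver X) (gi : Z ⟶ Y i) (gj : Z ⟶ Y j),
      gi ≫ sigmaIn Y g i = gj ≫ sigmaIn Y g j → (⊥ : Sieve Z) ∈ etTop X Z := by
    intro i j hij Z gi gj h
    have h' : gi.hom.left.left ≫ Sigma.ι (fun k => (Y k).obj.left.left) i =
        gj.hom.left.left ≫ Sigma.ι (fun k => (Y k).obj.left.left) j :=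
      congrArg (fun k => (EtOver.toScheme X).map k) h
    exact bot_mem_etTop_of_isEmpty Z (isEmpty_of_commSq_sigmaι_of_ne ⟨h'⟩ hij)
  obtain ⟨t', ht'⟩ := glue_disjoint G Y (sigmaIn Y g) (sigmaIn_cover Y g) hmono hdisj t
  refine ⟨Over.mk (sigmaHom Y g), ⟨hU, isAffine_sigmaObj Y g hY, fun x => ?_⟩, t', ?_⟩
  · obtain ⟨k, y, hy⟩ := hsurj x
    refine ⟨Sigma.ι (fun k => (Y k).obj.left.left) k y, ?_⟩
    rw [← hy, ← sigmaIn_hom Y g k]
    rfl
  · refine sep_ofArrows H Y (sigmaIn Y g) (sigmaIn_cover Y g) _ _ (fun k => ?_)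
    have e1 : H.obj.map (sigmaIn Y g k).op (π.hom.app (op (sigmaObj Y g)) t') =
        π.hom.app _ (G.obj.map (sigmaIn Y g k).op t') :=
      (NatTrans.naturality_apply π.hom (sigmaIn Y g k).op t').symm
    change H.obj.map (sigmaIn Y g k).op (π.hom.app (op (sigmaObj Y g)) t') =
      H.obj.map (sigmaIn Y g k).op (H.obj.map (sigmaHom Y g).op s)
    rw [e1, ht', ht]
    have e2 : H.obj.map (sigmaIn Y g k).op (H.obj.map (sigmaHom Y g).op s) =
        H.obj.map (sigmaIn Y g k ≫ sigmaHom Y g).op s := by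
      rw [op_comp, H.obj.map_comp]
      rfl
    rw [e2, sigmaIn_hom]

end Et

end Groth.Agent.Lib.Helper21.EtCartan
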