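import Mathlib
set_option autoImplicit false
universe w v₁ v₂ u₁ u₂ v₃ u₃
open CategoryTheory CategoryTheory.Limits Opposite

namespace Groth.Agent.Lib.Helper21.EtCartan

section Generic

variable {C : Type u₁} [Category.{v₁} C] {D : Type u₂} [Category.{v₂} D] (b : D ⥤ C)
  (J : GrothendieckTopology C) {𝒜 : Type u₃} [Category.{v₃} 𝒜]

/-- Restriction of a cone over a presheaf on `C` along `b : D ⥤ C`. -/
@[simps]
def restrConst {P : Cᵒᵖ ⥤ 𝒜} {A : 𝒜} (α : (Functor.const Cᵒᵖ).obj A ⟶ P) :
    (Functor.const Dᵒᵖ).obj A ⟶ b.op ⋙ P where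
  app V := α.app (op (b.obj V.unop))
  naturality V V' g := by
    have := α.naturality (b.map g.unop).op
    simpa using this

theorem restrConst_comp {P P' : Cᵒᵖ ⥤ 𝒜} {A : 𝒜} (α : (Functor.const Cᵒᵖ).obj A ⟶ P) (g : P ⟶ P') :
    restrConst b (α ≫ g) = restrConst b α ≫ Functor.whiskerLeft b.op g := by
  ext V
  rfl

variable {b J}

theorem restrConst_bijective (G : Sheaf J 𝒜) (A : 𝒜) (hcov : J.CoversTop b.obj)
    (hprod : ∀ (Z : C) (V V' : D) (h : Z ⟶ b.obj V) (h' : Z ⟶ b.obj V'),
      ∃ (W : D) (p : W ⟶ V) (p' : W ⟶ V') (k : Z ⟶ b.obj W), k ≫ b.map p = h ∧ k ≫ b.map p' = h') :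
    Function.Bijective (fun α : (Functor.const Cᵒᵖ).obj A ⟶ G.obj => restrConst b α) := by
  constructor
  · intro α α' h
    ext ⟨U⟩
    refine G.property.hom_ext (hcov.cover U) _ _ ?_
    rintro ⟨W, a, ⟨V, ⟨c⟩⟩⟩
    have e1 := α.naturality a.op
    have e2 := α'.naturality a.op
    have e3 := α.naturality c.op
    have e4 := α'.naturality c.op
    have e5 : α.app (op (b.obj V)) = α'.app (op (b.obj V)) := congrArg (fun t => t.app (op V)) h
    simp only [Functor.const_obj_obj, Functor.const_obj_map, Category.id_comp] at e1 e2 e3 e4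
    change α.app (op U) ≫ G.obj.map a.op = α'.app (op U) ≫ G.obj.map a.op
    rw [← e1, ← e2, e3, e4, e5]
  · intro β
    let T : Cᵒᵖ ⥤ Type _ := G.obj ⋙ coyoneda.obj (op A)
    have hT : Presheaf.IsSheaf J T := (isSheaf_iff_isSheaf_of_type _ _).2 (G.property A)
    let x : Presheaf.FamilyOfElementsOnObjects T b.obj := fun V => β.app (op V)
    have hx : x.IsCompatible := by
      intro Z V V' h h'
      obtain ⟨W, p, p', k, rfl, rfl⟩ := hprod Z V V' h h'
      have e1 := β.naturality p.op
      have e2 := β.naturality p'.op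
      simp only [Functor.const_obj_obj, Functor.const_obj_map, Category.id_comp, Functor.comp_map,
        Functor.op_map, Quiver.Hom.unop_op] at e1 e2
      change β.app (op V) ≫ G.obj.map (k ≫ b.map p).op = β.app (op V') ≫ G.obj.map (k ≫ b.map p').op
      rw [op_comp, op_comp, Functor.map_comp, Functor.map_comp, ← Category.assoc, ← Category.assoc,
        ← e1, ← e2]
    obtain ⟨s, hs, -⟩ := hx.existsUnique_section hcov hT
    refine ⟨{ app := fun U => s.1 U, naturality := fun U U' g => ?_ }, ?_⟩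
    · have := s.2 g
      simp only [Functor.const_obj_obj, Functor.const_obj_map, Category.id_comp]
      exact this.symm
    · ext ⟨V⟩
      exact hs V

end Generic

end Groth.Agent.Lib.Helper21.EtCartan
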