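import Groth.Agent.Lib.Helper21.EtCartan.EtPushFinType
import Groth.Agent.Lib.Helper21.EtCartan.RestrConst

set_option autoImplicit false
set_option linter.style.haveILetI false
set_option linter.unusedSimpArgs false
set_option backward.isDefEq.respectTransparency false
universe u
open CategoryTheory CategoryTheory.Limits Opposite AlgebraicGeometry AlgSp

namespace Groth.Agent.Lib.Helper21.EtCartan

variable {S : Scheme.{u}} {X Y : Sp S} {f : X ⟶ Y} (hf : Representable f)

/-- Two maps from an object of the small etale site of `X` to base changes `bc V`, `bc V'` factor through the base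
change of the product `V × V'`. -/
theorem exists_lift_bc_prod (Z : EtOver X) (V V' : EtOver Y) (h : Z ⟶ (EtOver.bc hf).obj V)
    (h' : Z ⟶ (EtOver.bc hf).obj V') :
    ∃ (W : EtOver Y) (p : W ⟶ V) (p' : W ⟶ V') (k : Z ⟶ (EtOver.bc hf).obj W),
      k ≫ (EtOver.bc hf).map p = h ∧ k ≫ (EtOver.bc hf).map p' = h' := by
  let t₁ : Z.obj.left ⟶ V.obj.left := h.hom.left ≫ hf.snd V.obj.hom
  let t₂ : Z.obj.left ⟶ V'.obj.left := h'.hom.left ≫ hf.snd V'.obj.hom
  have c₁ : (yon S).map t₁ ≫ V.obj.hom = Z.obj.hom ≫ f := by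
    have : (yon S).map h.hom.left ≫ hf.fst V.obj.hom = Z.obj.hom := EtOver.w h
    rw [Functor.map_comp, Category.assoc, ← hf.w, ← Category.assoc, this]
  have c₂ : (yon S).map t₂ ≫ V'.obj.hom = Z.obj.hom ≫ f := by
    have : (yon S).map h'.hom.left ≫ hf.fst V'.obj.hom = Z.obj.hom := EtOver.w h'
    rw [Functor.map_comp, Category.assoc, ← hf.w, ← Category.assoc, this]
  let m : Z.obj.left ⟶ (EtOver.prodObj V V').obj.left :=
    V'.property.1.lift' t₂ t₁ (c₂.trans c₁.symm)
  have hm1 : m ≫ (EtOver.prodFst V V').hom.left = t₁ :=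
    Functor.relativelyRepresentable.lift'_snd _ _ _ _
  have hm2 : m ≫ (EtOver.prodSnd V V').hom.left = t₂ :=
    Functor.relativelyRepresentable.lift'_fst _ _ _ _
  have cm : Z.obj.hom ≫ f = (yon S).map m ≫ (EtOver.prodObj V V').obj.hom := by
    have := EtOver.w (EtOver.prodFst V V')
    rw [← this, ← Category.assoc, ← Functor.map_comp, hm1, c₁]
  let k : Z ⟶ (EtOver.bc hf).obj (EtOver.prodObj V V') :=
    EtOver.homMk (hf.lift Z.obj.hom m cm) (hf.lift_fst _ _ _)
  have hk : k.hom.left ≫ hf.snd (EtOver.prodObj V V').obj.hom = m := hf.lift_snd _ _ _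
  refine ⟨EtOver.prodObj V V', EtOver.prodFst V V', EtOver.prodSnd V V', k, ?_, ?_⟩
  · refine EtOver.hom_ext _ _ (hf.hom_ext ?_ ?_)
    · have e1 : (yon S).map (k ≫ (EtOver.bc hf).map (EtOver.prodFst V V')).hom.left ≫
          hf.fst V.obj.hom = Z.obj.hom := EtOver.w (k ≫ (EtOver.bc hf).map (EtOver.prodFst V V'))
      have e2 : (yon S).map h.hom.left ≫ hf.fst V.obj.hom = Z.obj.hom := EtOver.w h
      rw [e1, e2]
    · change (k.hom.left ≫ (EtOver.bcMap hf (EtOver.prodFst V V')).hom.left) ≫ _ = _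
      rw [Category.assoc, EtOver.bcMap_snd, ← Category.assoc, hk, hm1]
  · refine EtOver.hom_ext _ _ (hf.hom_ext ?_ ?_)
    · have e1 : (yon S).map (k ≫ (EtOver.bc hf).map (EtOver.prodSnd V V')).hom.left ≫
          hf.fst V'.obj.hom = Z.obj.hom := EtOver.w (k ≫ (EtOver.bc hf).map (EtOver.prodSnd V V'))
      have e2 : (yon S).map h'.hom.left ≫ hf.fst V'.obj.hom = Z.obj.hom := EtOver.w h'
      rw [e1, e2]
    · change (k.hom.left ≫ (EtOver.bcMap hf (EtOver.prodSnd V V')).hom.left) ≫ _ = _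
      rw [Category.assoc, EtOver.bcMap_snd, ← Category.assoc, hk, hm2]

/-- The base changes of all objects of `Y` cover the small etale site of `X`. -/
theorem coversTop_bc_all (hY : IsAlgSpace Y) : (etTop X).CoversTop (EtOver.bc hf).obj := by
  intro W
  refine (etTop X).superset_covering ?_ (coversTop_bc hf hY W)
  rintro Z g ⟨V, ⟨s⟩⟩
  exact ⟨V.1, ⟨s⟩⟩


/-- Global sections of an abelian sheaf on `X` give global sections of its direct image. -/
noncomputable def gsPush (A : AddCommGrpCat.{u + 1}) (G : AbEt X)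
    (φ : (constantSheaf (etTop X) AddCommGrpCat.{u + 1}).obj A ⟶ G) :
    (constantSheaf (etTop Y) AddCommGrpCat.{u + 1}).obj A ⟶ (pushEt hf AddCommGrpCat.{u + 1}).obj G :=
  ((sheafificationAdjunction (etTop Y) AddCommGrpCat.{u + 1}).homEquiv
      ((Functor.const (EtOver Y)ᵒᵖ).obj A) ((pushEt hf AddCommGrpCat.{u + 1}).obj G)).symm
    (restrConst (EtOver.bc hf)
      ((sheafificationAdjunction (etTop X) AddCommGrpCat.{u + 1}).homEquiv
        ((Functor.const (EtOver X)ᵒᵖ).obj A) G φ))

theorem gsPush_comp (A : AddCommGrpCat.{u + 1}) {G G' : AbEt X}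
    (φ : (constantSheaf (etTop X) AddCommGrpCat.{u + 1}).obj A ⟶ G) (g : G ⟶ G') :
    gsPush hf A G' (φ ≫ g) = gsPush hf A G φ ≫ (pushEt hf AddCommGrpCat.{u + 1}).map g := by
  unfold gsPush
  rw [← Adjunction.homEquiv_naturality_right_symm]
  congr 1

theorem gsPush_bijective (hY : IsAlgSpace Y) (A : AddCommGrpCat.{u + 1}) (G : AbEt X) :
    Function.Bijective (gsPush hf A G) := by
  have h1 := restrConst_bijective G A (coversTop_bc_all hf hY) (exists_lift_bc_prod hf)
  exact (Equiv.bijective _).comp (h1.comp (Equiv.bijective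
    ((sheafificationAdjunction (etTop X) AddCommGrpCat.{u + 1}).homEquiv
        ((Functor.const (EtOver X)ᵒᵖ).obj A) G)))

end Groth.Agent.Lib.Helper21.EtCartan
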