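import Groth.Agent.Lib.Helper21.EtCartan.EtGlobal
import Groth.Agent.H53.EtExact

set_option autoImplicit false
set_option linter.style.haveILetI false
set_option linter.unusedSimpArgs false
set_option backward.isDefEq.respectTransparency false
universe u
open CategoryTheory CategoryTheory.Limits Opposite AlgebraicGeometry AlgSp

namespace Groth.Agent.Lib.Helper21.EtCartan

variable {S : Scheme.{u}} {X Y : Sp S} {f : X ⟶ Y} (hf : Representable f)

/-- Lifts of a point `p` of `X` to a base change `V ×_Y X` are the lifts of `f ∘ p` to `V`. -/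
noncomputable def liftsToBcIso (p : FieldPt X) :
    EtOver.bc hf ⋙ FieldPt.liftsTo p ≅ FieldPt.liftsTo (p.map f) :=
  NatIso.ofComponents
    (fun V =>
      { hom := ↾fun u => ⟨u.1 ≫ hf.snd V.obj.hom, by
          have h2 : (yon S).map u.1 ≫ hf.fst V.obj.hom = p.toHom := u.2
          rw [Functor.map_comp, Category.assoc, ← hf.w, ← Category.assoc, h2,
            FieldPt.toHom_map]⟩
        inv := ↾fun v => ⟨hf.lift p.toHom v.1 (by
            have h2 : (yon S).map v.1 ≫ V.obj.hom = (p.map f).toHom := v.2
            exact (h2.trans (FieldPt.toHom_map f p)).symm), hf.lift_fst _ _ _⟩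
        hom_inv_id := by
          ext u
          refine Subtype.ext (hf.hom_ext ?_ ?_)
          · have h2 : (yon S).map u.1 ≫ hf.fst V.obj.hom = p.toHom := u.2
            exact (hf.lift_fst _ _ _).trans h2.symm
          · exact hf.lift_snd _ _ _
        inv_hom_id := by
          ext v
          exact Subtype.ext (hf.lift_snd _ _ _) })
    (fun {V V'} g => by
      ext u
      refine Subtype.ext ?_
      change (u.1 ≫ (EtOver.bcMap hf g).hom.left) ≫ hf.snd V'.obj.hom =
        (u.1 ≫ hf.snd V.obj.hom) ≫ g.hom.left
      rw [Category.assoc, EtOver.bcMap_snd, Category.assoc])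

open Groth.Agent.H53 in
/-- The image under `f` of a geometric point of `X`, as a point of the small etale site of `Y` whose fibre functor is
`V ↦ {lifts of p to V ×_Y X}`. -/
noncomputable def pushPoint (hX : IsAlgSpace X) (hY : IsAlgSpace Y) (p : FieldPt X) (hp : p.IsGeometric) :
    GrothendieckTopology.Point.{u} (etTop Y) where
  fiber := EtOver.bc hf ⋙ FieldPt.liftsTo p
  isCofiltered := by
    have : IsCofiltered ↑(Functor.elementsFunctor.obj (FieldPt.liftsTo (p.map f))) :=
      isCofiltered_etNbhd hY (p.map f) hp
    exact IsCofiltered.of_equivalence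
      (Cat.equivOfIso (Functor.elementsFunctor.mapIso (liftsToBcIso hf p))).symm
  initiallySmall := by
    have : InitiallySmall.{u} ↑(Functor.elementsFunctor.obj (FieldPt.liftsTo (p.map f))) :=
      initiallySmall_etNbhd hY (p.map f) hp
    exact initiallySmall_of_initial_of_initiallySmall
      (Cat.equivOfIso (Functor.elementsFunctor.mapIso (liftsToBcIso hf p))).symm.functor
  jointly_surjective {V} R hR x := by
    have hcp := CoverPreserving.of_isContinuous (EtOver.bc hf) (etTop Y) (etTop X)
    obtain ⟨Z, g, ⟨W, g', h, hg', rfl⟩, y, rfl⟩ :=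
      (etPoint hX p hp).jointly_surjective (Sieve.functorPushforward (EtOver.bc hf) R)
        (hcp.cover_preserve hR) x
    exact ⟨W, g', hg', (FieldPt.liftsTo p).map h y, by simp⟩

open Groth.Agent.H53 in
/-- The stalk of `f⁻¹ F` at a geometric point `p` is the fibre of `F` at the image point. -/
noncomputable def sheafFiberPushPointIso (hX : IsAlgSpace X) (hY : IsAlgSpace Y) (p : FieldPt X)
    (hp : p.IsGeometric) :
    (pushPoint hf hX hY p hp).sheafFiber (A := AddCommGrpCat.{u + 1}) ≅
      pullEt hf AddCommGrpCat.{u + 1} ⋙ (etPoint hX p hp).sheafFiber :=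
  (conjugateIsoEquiv ((pullPushAdjEt hf AddCommGrpCat.{u + 1}).comp
      (etPoint hX p hp).skyscraperSheafAdjunction)
    (pushPoint hf hX hY p hp).skyscraperSheafAdjunction).symm (Iso.refl _)

open Groth.Agent.H53 in
/-- The inverse image functor `f⁻¹` on abelian sheaves preserves monomorphisms. -/
theorem preservesMonomorphisms_pullEt (hX : IsAlgSpace X) (hY : IsAlgSpace Y) :
    (pullEt hf AddCommGrpCat.{u + 1}).PreservesMonomorphisms := by
  constructor
  intro F F' a ha
  refine mono_of_stalks_ab hX _ (fun p hp => ?_)
  let σ := sheafFiberPushPointIso hf hX hY p hp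
  have := ab5_addCommGrpCat_succ.{u}
  have h1 : Mono ((pushPoint hf hX hY p hp).sheafFiber.map a) := inferInstance
  have h2 : Mono ((pullEt hf AddCommGrpCat.{u + 1} ⋙ (etPoint hX p hp).sheafFiber).map a) := by
    have hn := σ.hom.naturality a
    have : (pullEt hf AddCommGrpCat.{u + 1} ⋙ (etPoint hX p hp).sheafFiber).map a =
        σ.inv.app F ≫ (pushPoint hf hX hY p hp).sheafFiber.map a ≫ σ.hom.app F' := by
      rw [hn, ← Category.assoc, Iso.inv_hom_id_app, Category.id_comp]
    rw [this]
    infer_instance
  exact (AddCommGrpCat.mono_iff_injective _).1 h2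

/-- Direct images of injective abelian sheaves are injective. -/
theorem injective_pushEt_obj (hX : IsAlgSpace X) (hY : IsAlgSpace Y) (I : AbEt X) [Injective I] :
    Injective ((pushEt hf AddCommGrpCat.{u + 1}).obj I) := by
  have := preservesMonomorphisms_pullEt hf hX hY
  exact Injective.injective_of_adjoint (pullPushAdjEt hf AddCommGrpCat.{u + 1}) I

end Groth.Agent.Lib.Helper21.EtCartan
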