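import Groth.Agent.Lib.Helper83.DerivedLES

/-!
# Vanishing of right derived functors by dimension shifting
-/

set_option autoImplicit false
universe v u v' u'
open CategoryTheory CategoryTheory.Limits

namespace Groth.Agent.Lib.Helper21.EtCartan

variable {C : Type u} [Category.{v} C] [Abelian C] [HasInjectiveResolutions C]
  {D : Type u'} [Category.{v'} D] [Abelian D] (F : C ⥤ D) [F.Additive] [PreservesFiniteLimits F]

/-- Dimension shifting: if every object of a class `P` embeds into an injective with cokernel in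
`P` such that `F` of the quotient map is an epimorphism, then the higher derived functors of `F`
vanish on `P`. -/
theorem isZero_rightDerived_succ (P : C → Prop)
    (hP : ∀ X, P X → ∃ S : ShortComplex C, S.ShortExact ∧ S.X₁ = X ∧ Injective S.X₂ ∧ P S.X₃ ∧
      Epi (F.map S.g)) (n : ℕ) : ∀ X : C, P X → IsZero ((F.rightDerived (n + 1)).obj X) := by
  let Δ := Groth.Agent.Lib.Helper83.derivedLES F
  induction n with
  | zero =>
    intro X hX
    obtain ⟨S, hS, rfl, hI, hQ, hepi⟩ := hP X hX
    have hz : IsZero ((F.rightDerived 1).obj S.X₂) := Functor.isZero_rightDerived_obj_injective_succ F 0 S.X₂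
    have h1 := Δ.exact₁ S hS 0 1 rfl
    have h3 := Δ.exact₃ S hS 0 1 rfl
    have hepiδ : Epi (Δ.δ S hS 0 1 rfl) := h1.epi_f (hz.eq_of_tgt _ _)
    have hepi0 : Epi ((F.rightDerived 0).map S.g) := by
      have hnat := (Functor.rightDerivedZeroIsoSelf F).hom.naturality S.g
      have : (F.rightDerived 0).map S.g = (Functor.rightDerivedZeroIsoSelf F).hom.app S.X₂ ≫ F.map S.g ≫
          (Functor.rightDerivedZeroIsoSelf F).inv.app S.X₃ := by
        rw [← Category.assoc, ← hnat, Category.assoc, Iso.hom_inv_id_app, Category.comp_id]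
      rw [this]
      infer_instance
    have hδ0 : Δ.δ S hS 0 1 rfl = 0 := by
      have := Δ.comp_δ S hS 0 1 rfl
      rw [← cancel_epi ((F.rightDerived 0).map S.g), this, comp_zero]
    exact IsZero.of_epi_eq_zero _ hδ0
  | succ n ih =>
    intro X hX
    obtain ⟨S, hS, rfl, hI, hQ, hepi⟩ := hP X hX
    have hz : IsZero ((F.rightDerived (n + 2)).obj S.X₂) :=
      Functor.isZero_rightDerived_obj_injective_succ F (n + 1) S.X₂
    have h1 := Δ.exact₁ S hS (n + 1) (n + 2) rfl
    have hepiδ : Epi (Δ.δ S hS (n + 1) (n + 2) rfl) := h1.epi_f (hz.eq_of_tgt _ _)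
    exact IsZero.of_epi (Δ.δ S hS (n + 1) (n + 2) rfl) (ih S.X₃ hQ)

end Groth.Agent.Lib.Helper21.EtCartan
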