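import Groth.Agent.Lib.Helper21.EtCartan.EtVanish
import Groth.Agent.Lib.Helper21.EtCartan.RDerZero
import Groth.Prelude.Def_AlgSpOX2

set_option autoImplicit false
set_option linter.style.haveILetI false
set_option linter.unusedSimpArgs false
set_option backward.isDefEq.respectTransparency false
universe u
open CategoryTheory CategoryTheory.Limits Opposite AlgebraicGeometry AlgSp

namespace Groth.Agent.Lib.Helper21.EtCartan

open Groth.Agent.Lib.Helper21.Tilde Groth.Agent.Lib.Helper44.BigCech

variable {S : Scheme.{u}} {X Y : Sp S} {f : X ⟶ Y} (hf : Representable f)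

/-- The base change of an affine object along an affine morphism is affine. -/
theorem isAffine_bcObj (haff : IsAffineMor f) (V : EtOver Y) (hV : IsAffine V.obj.left.left) :
    IsAffine ((EtOver.bc hf).obj V).obj.left.left := by
  obtain ⟨W, i, fst, sq, hW⟩ := haff hV V.obj.hom
  have sq' := EtOver.isPullback_bcObj hf V
  let e : (yon S).obj (EtOver.bcObj hf V).obj.left ≅ (yon S).obj W := sq'.isoIsPullback _ _ sq
  let e' : (EtOver.bcObj hf V).obj.left ≅ W := (yon S).preimageIso e
  have e'' : (EtOver.bcObj hf V).obj.left.left ≅ W.left := (Over.forget S).mapIso e'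
  exact IsAffine.of_isIso e''.hom

/-- Pushforward along an affine morphism of a map of abelian sheaves which is surjective on
sections over affine objects is an epimorphism. -/
theorem epi_pushEt_map (haff : IsAffineMor f) {G H : AbEt X} (π : G ⟶ H)
    (hsurj : ∀ V : EtOver X, IsAffine V.obj.left.left → Function.Surjective (π.hom.app (op V))) :
    Epi ((pushEt hf AddCommGrpCat.{u + 1}).map π) := by
  rw [← Sheaf.isLocallySurjective_iff_epi']
  refine ⟨fun {V} s => ?_⟩
  refine basis_etTop V _ (fun W g hW => ?_)
  obtain ⟨t, ht⟩ := hsurj ((EtOver.bc hf).obj W) (isAffine_bcObj hf haff W hW)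
    (((pushEt hf AddCommGrpCat.{u + 1}).obj H).obj.map g.op s)
  exact ⟨t, ht⟩

/-- **Vanishing of higher direct images** along an affine morphism, for modules with the base
change property. -/
theorem isZero_RpushEt (haff : IsAffineMor f) (M : ModEt X) (hM : IsBCEt M) (n : ℕ) :
    IsZero ((RpushEt hf (n + 1)).obj ((toAbEt X).obj M)) := by
  refine isZero_rightDerived_succ (pushEt hf AddCommGrpCat.{u + 1})
    (CechAcyclic (etTop X) CovEt) (fun F hF => ?_) n _ (cechAcyclic_of_isBCEt M hM)
  obtain ⟨T, hT, h1, hI, hQ, hs⟩ := cartan_class_step (etTop X) (affSet X) CovEt covEt_h1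
    covEt_h2 F hF
  exact ⟨T, hT, h1, hI, hQ, epi_pushEt_map hf haff T.g (fun V hV => hs V V hV (Iso.refl _))⟩

end Groth.Agent.Lib.Helper21.EtCartan
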