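import Groth.Agent.Lib.Helper21.EtCartan.ExtLeray
import Groth.Agent.Lib.Helper21.EtCartan.EtPullMono
import Groth.Agent.Lib.Helper21.EtCartan.EtPushVanish

set_option autoImplicit false
set_option linter.style.haveILetI false
set_option linter.unusedSimpArgs false
set_option backward.isDefEq.respectTransparency false
universe u
open CategoryTheory CategoryTheory.Limits Opposite AlgebraicGeometry AlgSp

namespace Groth.Agent.Lib.Helper21.EtCartan

variable {S : Scheme.{u}} {X Y : Sp S} {f : X ⟶ Y} (hf : Representable f)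

theorem restrConst_add {C D : Type*} [Category C] [Category D] (b : D ⥤ C)
    {P : Cᵒᵖ ⥤ AddCommGrpCat.{u + 1}} {A : AddCommGrpCat.{u + 1}}
    (α β : (Functor.const Cᵒᵖ).obj A ⟶ P) :
    restrConst b (α + β) = restrConst b α + restrConst b β := by
  ext V
  rfl

theorem gsPush_add (A : AddCommGrpCat.{u + 1}) (G : AbEt X)
    (φ ψ : (constantSheaf (etTop X) AddCommGrpCat.{u + 1}).obj A ⟶ G) :
    gsPush hf A G (φ + ψ) = gsPush hf A G φ + gsPush hf A G ψ := by
  unfold gsPush
  have h1 := ((sheafificationAdjunction (etTop X) AddCommGrpCat.{u + 1}).homAddEquiv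
    ((Functor.const (EtOver X)ᵒᵖ).obj A) G).map_add φ ψ
  have h2 := fun a b => ((sheafificationAdjunction (etTop Y) AddCommGrpCat.{u + 1}).homAddEquiv
    ((Functor.const (EtOver Y)ᵒᵖ).obj A) ((pushEt hf AddCommGrpCat.{u + 1}).obj G)).symm.map_add a b
  simp only [Adjunction.homAddEquiv_apply, Adjunction.homAddEquiv_symm_apply] at h1 h2
  erw [h1, restrConst_add, h2]

/-- Global sections of `G` and of `f_* G` agree, as an additive equivalence. -/
noncomputable def gsPushAddEquiv (hY : IsAlgSpace Y) (A : AddCommGrpCat.{u + 1}) (G : AbEt X) :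
    ((constantSheaf (etTop X) AddCommGrpCat.{u + 1}).obj A ⟶ G) ≃+
      ((constantSheaf (etTop Y) AddCommGrpCat.{u + 1}).obj A ⟶
        (pushEt hf AddCommGrpCat.{u + 1}).obj G) :=
  AddEquiv.ofBijective (AddMonoidHom.mk' (gsPush hf A G) (gsPush_add hf A G))
    (gsPush_bijective hf hY A G)

/-- **Leray for vanishing higher direct images**: `Hⁱ(X, F) ≃ Hⁱ(Y, f_* F)` if `R^q f_* F = 0` for `q > 0`. -/
theorem nonempty_HEt_addEquiv_pushEt (hX : IsAlgSpace X) (hY : IsAlgSpace Y) (F : AbEt X)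
    (hF : ∀ q, IsZero ((RpushEt hf (q + 1)).obj F)) (i : ℕ) :
    Nonempty (HEt X F i ≃+ HEt Y ((pushEt hf AddCommGrpCat.{u + 1}).obj F) i) :=
  nonempty_ext_addEquiv_push (pushEt hf AddCommGrpCat.{u + 1})
    (fun I _ => injective_pushEt_obj hf hX hY I)
    ((constantSheaf (etTop X) AddCommGrpCat.{u + 1}).obj (AddCommGrpCat.of (ULift ℤ)))
    ((constantSheaf (etTop Y) AddCommGrpCat.{u + 1}).obj (AddCommGrpCat.of (ULift ℤ)))
    (fun G => gsPushAddEquiv hf hY _ G) (fun _ _ φ g => gsPush_comp hf _ φ g) i F hF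

end Groth.Agent.Lib.Helper21.EtCartan
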