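import Groth.Agent.Lib.Helper21.EtCartan.EtPushMod
import Groth.Agent.Lib.Helper21.TildeEtFin

set_option autoImplicit false
set_option linter.style.haveILetI false
set_option linter.unusedSimpArgs false
set_option backward.isDefEq.respectTransparency false
universe u
open CategoryTheory CategoryTheory.Limits Opposite AlgebraicGeometry AlgSp

namespace Groth.Agent.Lib.Helper21.EtCartan

open Groth.Agent.Lib.Helper21.Tilde

variable {S : Scheme.{u}} {X Y : Sp S} {f : X ⟶ Y} (hf : Representable f)

theorem isAffineMor_of_isFiniteMor (hfin : IsFiniteMor f) : IsAffineMor f := by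
  intro Z hZ g
  obtain ⟨W, i, fst, sq, hW, -⟩ := hfin hZ g
  exact ⟨W, i, fst, sq, hW⟩

/-- The projection from the base change of an affine object along a finite morphism is finite. -/
theorem isFinite_bcπ (hfin : IsFiniteMor f) (V : EtOver Y) (hV : IsAffine V.obj.left.left) :
    IsFinite (EtOver.bcπ hf V).left := by
  obtain ⟨W, i, fst, sq, hW, hi⟩ := hfin hV V.obj.hom
  have sq' := EtOver.isPullback_bcObj hf V
  let e : (yon S).obj (EtOver.bcObj hf V).obj.left ≅ (yon S).obj W := sq'.isoIsPullback _ _ sq
  have he : e.hom ≫ (yon S).map i = (yon S).map (EtOver.bcπ hf V) :=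
    IsPullback.isoIsPullback_hom_snd _ _ sq' sq
  let e' : (EtOver.bcObj hf V).obj.left ≅ W := (yon S).preimageIso e
  have he' : e'.hom ≫ i = EtOver.bcπ hf V := by
    apply (yon S).map_injective
    rw [Functor.map_comp]
    change (yon S).map ((yon S).preimage e.hom) ≫ _ = _
    rw [Functor.map_preimage, he]
  have h3 : (EtOver.bcπ hf V).left = e'.hom.left ≫ i.left := by
    rw [← he']
    rfl
  haveI : IsIso e'.hom.left := (inferInstance : IsIso ((Over.forget S).map e'.hom))
  rw [h3]
  infer_instance

/-- Sections of the direct image of a finite type quasi-coherent module along a finite morphism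
are finite modules. -/
theorem finite_sections_pushModEt (hfin : IsFiniteMor f) (M : ModEt X) [M.IsQuasicoherent]
    [M.IsFiniteType] (V : EtOver Y) (hV : IsAffine V.obj.left.left) :
    Module.Finite ((OEtRing Y).obj.obj (op V)) (((pushModEt hf).obj M).val.obj (op V)) := by
  have hbV := isAffine_bcObj hf (isAffineMor_of_isFiniteMor hfin) V hV
  have h1 : Module.Finite ((OEtRing X).obj.obj (op ((EtOver.bc hf).obj V)))
      (M.val.obj (op ((EtOver.bc hf).obj V))) := finite_sections_et M _ hbV
  have hfinπ := isFinite_bcπ hf hfin V hV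
  haveI : IsAffine V.obj.left.left := hV
  have h2 : (EtOver.bcπ hf V).left.appTop.hom.Finite := Scheme.Hom.finite_appTop _
  have h3 : (bcR hf V).Finite := by
    have e : bcR hf V =
        ((ULift.ringEquiv.symm : Γ((EtOver.bcObj hf V).obj.left.left, ⊤) ≃+*
          ULift.{u+1} Γ((EtOver.bcObj hf V).obj.left.left, ⊤)).toRingHom).comp
        ((EtOver.bcπ hf V).left.appTop.hom.comp
          (ULift.ringEquiv : ULift.{u+1} Γ(V.obj.left.left, ⊤) ≃+* Γ(V.obj.left.left, ⊤)).toRingHom) :=
      RingHom.ext fun _ => rfl
    rw [e]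
    exact RingHom.Finite.comp (RingHom.Finite.of_surjective _ (RingEquiv.surjective _))
      (RingHom.Finite.comp h2 (RingHom.Finite.of_surjective _ (RingEquiv.surjective _)))
  letI : Algebra ((OEtRing Y).obj.obj (op V)) ((OEtRing X).obj.obj (op ((EtOver.bc hf).obj V))) :=
    (bcR hf V).toAlgebra
  letI i1 : Module ((OEtRing Y).obj.obj (op V)) (M.val.obj (op ((EtOver.bc hf).obj V))) :=
    Module.compHom _ (bcR hf V)
  haveI : IsScalarTower ((OEtRing Y).obj.obj (op V))
      ((OEtRing X).obj.obj (op ((EtOver.bc hf).obj V))) (M.val.obj (op ((EtOver.bc hf).obj V))) :=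
    isScalarTower_compHom (bcR hf V)
  haveI : Module.Finite ((OEtRing Y).obj.obj (op V))
      ((OEtRing X).obj.obj (op ((EtOver.bc hf).obj V))) := h3
  have key : Module.Finite ((OEtRing Y).obj.obj (op V)) (M.val.obj (op ((EtOver.bc hf).obj V))) :=
    Module.Finite.trans ((OEtRing X).obj.obj (op ((EtOver.bc hf).obj V))) _
  exact key

/-- **Finite direct images of coherent modules are coherent.** -/
theorem isFinitePresentation_pushModEt (hfin : IsFiniteMor f) (hY : IsLocNoethSp Y) (M : ModEt X)
    [M.IsQuasicoherent] [M.IsFiniteType] : ((pushModEt hf).obj M).IsFinitePresentation :=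
  isFinitePresentation_of_finite_et hY _
    (isBCEt_pushModEt hf (isAffineMor_of_isFiniteMor hfin) M (isBCEt_of_isQuasicoherent M))
    (fun V hV => finite_sections_pushModEt hf hfin M V hV)

end Groth.Agent.Lib.Helper21.EtCartan
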