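import Groth.Agent.Lib.Helper21.EtCartan.EtPushFin
import Groth.Agent.Lib.Helper21.TildeFinType
import Groth.Agent.H53.EtReduced
import Groth.Agent.H52.Points
import Groth.Agent.H52.ZarAff

set_option autoImplicit false
set_option linter.style.haveILetI false
set_option linter.unusedSimpArgs false
set_option backward.isDefEq.respectTransparency false
universe u
open CategoryTheory CategoryTheory.Limits Opposite AlgebraicGeometry AlgSp

namespace Groth.Agent.Lib.Helper21.EtCartan

open Groth.Agent.Lib.Helper21.Tilde Groth.Agent.Lib.Helper21.WeakAss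

variable {S : Scheme.{u}} {X Y : Sp S} {f : X ⟶ Y} (hf : Representable f)

/-- Every point of an algebraic space lies on an affine object of its small etale site. -/
theorem exists_affine_obj_of_point (hY : IsAlgSpace Y) (y : Points Y) :
    ∃ (V : EtOver Y) (v : V.obj.left.left), IsAffine V.obj.left.left ∧
      Points.ofPt V.obj.hom v = y := by
  obtain ⟨U₀, a, ha1, ha2⟩ := hY.atlas
  obtain ⟨u₀, rfl⟩ := Groth.Agent.H53.surjective_ofPt_of_surjective a ha2 y
  obtain ⟨_, ⟨A, hA, rfl⟩, huA, -⟩ :=
    (U₀.left.isBasis_affineOpens).exists_subset_of_mem_open (Set.mem_univ u₀) isOpen_univ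
  exact ⟨openObj (EtOver.mk a ha1) A, ⟨u₀, huA⟩, hA,
    Groth.Agent.H52.ofPt_overOpenι_comp a _ ⟨u₀, huA⟩⟩

/-- The base changes of the affine objects of `Y` cover the small etale site of `X`. -/
theorem coversTop_bc (hY : IsAlgSpace Y) :
    (etTop X).CoversTop (fun V : {V : EtOver Y // IsAffine V.obj.left.left} =>
      (EtOver.bc hf).obj V.1) := by
  intro W
  have hcov : Sieve.ofArrows
      (fun V : {V : EtOver Y // IsAffine V.obj.left.left} =>
        EtOver.prodObj W ((EtOver.bc hf).obj V.1))
      (fun V => EtOver.prodFst W ((EtOver.bc hf).obj V.1)) ∈ etTop X W := by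
    refine ofArrows_mem_etTop _ _ (fun w => ?_)
    obtain ⟨V, v, hV, hv⟩ := exists_affine_obj_of_point hY
      (Points.map f (Points.ofPt W.obj.hom w))
    have sq := EtOver.isPullback_bcObj hf V
    obtain ⟨p, hp1, hp2⟩ := Groth.Agent.H52.exists_point_of_isPullback sq
      (Points.ofPt W.obj.hom w) (Points.ofScheme V.obj.left v)
      (by rw [← Points.ofPt_eq_map_ofScheme, hv])
    obtain ⟨b, rfl⟩ := (Points.schemeEquiv _).surjective p
    have hb : Points.ofPt W.obj.hom w = Points.ofPt ((EtOver.bc hf).obj V).obj.hom b := by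
      rw [← hp1, Points.ofPt_eq_map_ofScheme]
      rfl
    obtain ⟨z, hz, -⟩ := Groth.Agent.H53.exists_point_prodObj' W ((EtOver.bc hf).obj V) w b hb
    exact ⟨⟨V, hV⟩, z, hz⟩
  refine (etTop X).superset_covering ?_ hcov
  rintro Z g ⟨Z', s, _, ⟨V⟩, rfl⟩
  exact (Sieve.mem_ofObjects_iff ..).2 ⟨V, ⟨s ≫ EtOver.prodSnd W ((EtOver.bc hf).obj V.1)⟩⟩


/-- A quasi-coherent module is of finite type iff its direct image along a finite morphism is. -/
theorem isFiniteType_pushModEt_iff (hfin : IsFiniteMor f) (hY : IsAlgSpace Y) (F : ModEt X)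
    [F.IsQuasicoherent] : F.IsFiniteType ↔ ((pushModEt hf).obj F).IsFiniteType := by
  have haff := isAffineMor_of_isFiniteMor hfin
  have hG : IsBCEt ((pushModEt hf).obj F) :=
    isBCEt_pushModEt hf haff F (isBCEt_of_isQuasicoherent F)
  constructor
  · intro hF
    exact (etAffData Y).isFiniteType_of_isBC _ hG
      (fun V hV => finite_sections_pushModEt hf hfin F V hV)
  · intro hGft
    haveI : ((pushModEt hf).obj F).IsQuasicoherent := hG.isQuasicoherent
    refine (etAffData X).isFiniteType_of_isBC_cover F (isBCEt_of_isQuasicoherent F)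
      (I := {V : EtOver Y // IsAffine V.obj.left.left}) (fun V => (EtOver.bc hf).obj V.1)
      (coversTop_bc hf hY) (fun V => isAffine_bcObj hf haff V.1 V.2) (fun V => ?_)
    have h1 : Module.Finite ((OEtRing Y).obj.obj (op V.1))
        (((pushModEt hf).obj F).val.obj (op V.1)) := finite_sections_et _ V.1 V.2
    letI : Algebra ((OEtRing Y).obj.obj (op V.1))
        ((OEtRing X).obj.obj (op ((EtOver.bc hf).obj V.1))) := (bcR hf V.1).toAlgebra
    letI i1 : Module ((OEtRing Y).obj.obj (op V.1)) (F.val.obj (op ((EtOver.bc hf).obj V.1))) :=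
      Module.compHom _ (bcR hf V.1)
    haveI : IsScalarTower ((OEtRing Y).obj.obj (op V.1))
        ((OEtRing X).obj.obj (op ((EtOver.bc hf).obj V.1)))
        (F.val.obj (op ((EtOver.bc hf).obj V.1))) :=
      isScalarTower_compHom (bcR hf V.1)
    haveI h2 : Module.Finite ((OEtRing Y).obj.obj (op V.1))
        (F.val.obj (op ((EtOver.bc hf).obj V.1))) := h1
    exact Module.Finite.of_restrictScalars_finite ((OEtRing Y).obj.obj (op V.1)) _ _

end Groth.Agent.Lib.Helper21.EtCartan
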