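import Groth.Agent.Lib.Helper21.EtCartan.EtPushMod
import Groth.Agent.Lib.Helper21.TildeWeakAss
import Groth.Agent.H53.SpBasic

set_option autoImplicit false
set_option linter.style.haveILetI false
set_option linter.unusedSimpArgs false
set_option backward.isDefEq.respectTransparency false
universe u
open CategoryTheory CategoryTheory.Limits Opposite AlgebraicGeometry AlgSp

namespace Groth.Agent.Lib.Helper21.EtCartan

open Groth.Agent.Lib.Helper21.Tilde Groth.Agent.Lib.Helper21.WeakAss

variable {S : Scheme.{u}} {X Y : Sp S} {f : X ⟶ Y} (hf : Representable f)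

/-- On an affine scheme a point is determined by its prime. -/
theorem eq_of_primeAtPt_eq (U : Scheme.{u}) [IsAffine U] (u u' : U)
    (h : primeAtPt U u = primeAtPt U u') : u = u' := by
  rw [primeAtPt_eq_primeIdealOf, primeAtPt_eq_primeIdealOf] at h
  have h1 : (isAffineOpen_top U).primeIdealOf ⟨u, trivial⟩ =
      (isAffineOpen_top U).primeIdealOf ⟨u', trivial⟩ := PrimeSpectrum.ext h
  have h2 := congrArg (isAffineOpen_top U).fromSpec h1
  rw [IsAffineOpen.fromSpec_primeIdealOf, IsAffineOpen.fromSpec_primeIdealOf] at h2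
  exact h2

/-- The annihilator of a section of the direct image is the preimage of the annihilator of the
section upstairs. -/
theorem annSect_pushModEt (M : ModEt X) (E : EtOver Y)
    (s : sectModEt ((pushModEt hf).obj M) E) :
    annSect s = Ideal.comap (EtOver.bcπ hf E).left.appTop.hom
      (annSect (M := M) (E := (EtOver.bc hf).obj E) s) := by
  ext a
  rw [mem_annSect_iff, Ideal.mem_comap, mem_annSect_iff]
  rfl

/-- **Weakly associated points of a direct image along an affine morphism** lie under weakly
associated points. -/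
theorem weakAssEt_pushModEt_subset (haff : IsAffineMor f) (M : ModEt X) :
    WeakAssEt ((pushModEt hf).obj M) ⊆ Points.map f '' WeakAssEt M := by
  rintro y ⟨E, hE, u, rfl, s, hs⟩
  have hbE : IsAffine ((EtOver.bc hf).obj E).obj.left.left := isAffine_bcObj hf haff E hE
  rw [annSect_pushModEt] at hs
  obtain ⟨p', hp', hcomap⟩ := Ideal.exists_minimalPrimes_comap_eq _ _ hs
  haveI : p'.IsPrime := hp'.1.1
  obtain ⟨b, hb⟩ := exists_primeAtPt_eq ((EtOver.bc hf).obj E).obj.left.left p'
  have hbu : (EtOver.bcπ hf E).left b = u := by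
    apply eq_of_primeAtPt_eq
    rw [← comap_primeAtPt]
    exact (congrArg (Ideal.comap (EtOver.bcπ hf E).left.appTop.hom) hb).trans hcomap
  refine ⟨Points.ofPt ((EtOver.bc hf).obj E).obj.hom b, ⟨(EtOver.bc hf).obj E, hbE, b, rfl, s, ?_⟩, ?_⟩
  · rw [hb]
    exact hp'
  · rw [← hbu]
    have h1 := Groth.Agent.H53.ofPt_yon_map_comp (EtOver.bcπ hf E) E.obj.hom b
    rw [← h1, ← (EtOver.isPullback_bcObj hf E).w, Points.ofPt_eq_map_ofScheme,
      Points.ofPt_eq_map_ofScheme, Points.map_comp]
    rfl

end Groth.Agent.Lib.Helper21.EtCartan
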