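import Groth.Agent.Lib.Helper21.EtCartan.EtCover
import Groth.Agent.H52.Basic

set_option autoImplicit false
set_option linter.style.haveILetI false
set_option linter.unusedSimpArgs false
set_option backward.isDefEq.respectTransparency false
universe u
open CategoryTheory CategoryTheory.Limits Opposite AlgebraicGeometry AlgSp

namespace Groth.Agent.Lib.Helper21.EtCartan

open Groth.Agent.Lib.Helper21.Tilde Groth.Agent.Lib.Helper44.BigCech

variable {S : Scheme.{u}} {X : Sp S}

/-- A surjective morphism of affine objects is surjective on prime spectra of sections. -/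
theorem specSurj_of_surj {E E' : EtOver X} (g : E' ⟶ E) (hE : IsAffine E.obj.left.left)
    (hE' : IsAffine E'.obj.left.left) (hs : ∀ x : E.obj.left.left, x ∈ Set.range g.hom.left.left)
    (p : PrimeSpectrum ((OEtRing X).obj.obj (op E))) :
    ∃ q : PrimeSpectrum ((OEtRing X).obj.obj (op E')),
      q.comap ((OEtRing X).obj.map g.op).hom = p := by
  let p' : PrimeSpectrum Γ(E.obj.left.left, ⊤) :=
    p.comap (ULift.ringEquiv.symm :
      Γ(E.obj.left.left, ⊤) ≃+* ULift.{u+1} Γ(E.obj.left.left, ⊤)).toRingHom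
  have hk := hs (E.obj.left.left.isoSpec.inv p')
  obtain ⟨q', hq'⟩ := exists_prime_comap_of_mem_range g.hom.left.left p' hk
  have hq'' : ∀ a, a ∈ (q'.comap g.hom.left.left.appTop.hom).asIdeal ↔ a ∈ p'.asIdeal := by
    intro a
    rw [hq']
  refine ⟨q'.comap (ULift.ringEquiv :
      ULift.{u+1} Γ(E'.obj.left.left, ⊤) ≃+* Γ(E'.obj.left.left, ⊤)).toRingHom,
    PrimeSpectrum.ext (Ideal.ext fun s => ?_)⟩
  exact hq'' s.down

/-- The affine objects. -/
def affSet (X : Sp S) : Set (EtOver X) := {E | IsAffine E.obj.left.left}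

theorem covEt_h1 (U : EtOver X) (W : Over U) (hc : CovEt U W) :
    Sieve.ofArrows (fun _ : PUnit.{u + 2} => W.left) (fun _ => W.hom) ∈ etTop X U ∧
      ∀ p : ℕ, ∃ V' ∈ affSet X, Nonempty ((∏ᶜ fun _ : Fin (p + 1) => W).left ≅ V') := by
  obtain ⟨hU, hW, hs⟩ := hc
  refine ⟨ofArrows_mem_etTop _ _ fun x => ⟨PUnit.unit, hs x⟩, fun p => ?_⟩
  exact ⟨(Zp W (p + 1)).left, isAffine_Zp W hU hW p, ⟨Iso.refl _⟩⟩

theorem covEt_h2 (G H : AbEt X) (π : G ⟶ H) (hπ : Epi π) (U : EtOver X) (hU : U ∈ affSet X)
    (s : H.obj.obj (op U)) :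
    ∃ W : Over U, CovEt U W ∧
      ∃ t : G.obj.obj (op W.left), π.hom.app (op W.left) t = H.obj.map W.hom.op s :=
  local_lift π U hU s

/-- Modules with the base change property are Čech acyclic for single affine coverings. -/
theorem cechAcyclic_of_isBCEt (M : ModEt X) (hM : IsBCEt M) :
    CechAcyclic (etTop X) CovEt ((toAbEt X).obj M) := by
  intro U W hc p
  obtain ⟨hU, hW, hs⟩ := hc
  exact cech_acyclic W M hM hU hW (specSurj_of_surj W.hom hU hW hs) p

/-- **Vanishing of higher cohomology on an affine terminal object.** -/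
theorem subsingleton_HModEt_of_isTerminal (T : EtOver X) (hT : IsTerminal T)
    (hTaff : IsAffine T.obj.left.left) (M : ModEt X) (hM : IsBCEt M) (p : ℕ) :
    Subsingleton (HModEt X M (p + 1)) :=
  big_cartan (etTop X) T hT (affSet X) CovEt covEt_h1 covEt_h2 ((toAbEt X).obj M)
    (cechAcyclic_of_isBCEt M hM) hTaff p

/-- When `X ≅ h_T`, the object `(T, e)` of the small etale site is terminal. -/
noncomputable def isTerminalOfIso {T : Over S} (e : (yon S).obj T ≅ X) :
    IsTerminal (EtOver.mk e.hom (Groth.Agent.H52.repWith_of_isIso _ e.hom)) :=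
  IsTerminal.ofUniqueHom
    (fun E => EtOver.homMk ((yon S).preimage (E.obj.hom ≫ e.inv)) (by
      rw [Functor.map_preimage]
      simp))
    (fun E m => by
      apply EtOver.hom_ext
      apply (yon S).map_injective
      change (yon S).map m.hom.left = (yon S).map ((yon S).preimage (E.obj.hom ≫ e.inv))
      have hw : (yon S).map m.hom.left ≫ e.hom = E.obj.hom := EtOver.w m
      rw [Functor.map_preimage, ← hw, Category.assoc, e.hom_inv_id]
      exact (Category.comp_id _).symm)

end Groth.Agent.Lib.Helper21.EtCartan
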