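import Groth.Agent.Lib.Helper83.DerivedLES
import Mathlib

set_option autoImplicit false
universe w w' v₁ v₂ u₁ u₂
open CategoryTheory CategoryTheory.Limits Opposite Abelian

namespace Groth.Agent.Lib.Helper21.EtCartan

section Delta

variable {𝒞 : Type u₁} [Category.{v₁} 𝒞] [Abelian 𝒞] [HasExt.{w} 𝒞] (P : 𝒞)
  {S : ShortComplex 𝒞} (hS : S.ShortExact)

include hS in
theorem extDelta_surjective [Injective S.X₂] (n : ℕ) :
    Function.Surjective (hS.extClass.postcomp P (rfl : n + 1 = n + 1)) := by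
  intro x
  obtain ⟨y, hy⟩ := Ext.covariant_sequence_exact₁ P hS x (Ext.eq_zero_of_injective _) rfl
  exact ⟨y, hy⟩

include hS in
theorem extDelta_eq_zero_iff (n : ℕ) (y : Ext P S.X₃ n) :
    hS.extClass.postcomp P (rfl : n + 1 = n + 1) y = 0 ↔
      ∃ z : Ext P S.X₂ n, z.comp (Ext.mk₀ S.g) (add_zero n) = y := by
  constructor
  · intro h
    exact Ext.covariant_sequence_exact₃ P hS y rfl h
  · rintro ⟨z, rfl⟩
    change (z.comp (Ext.mk₀ S.g) (add_zero n)).comp hS.extClass rfl = 0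
    rw [Ext.comp_assoc_of_second_deg_zero, hS.comp_extClass, Ext.comp_zero]

end Delta

/-- Dimension shifting for `Ext` along two short exact sequences with injective middle terms. -/
theorem nonempty_ext_addEquiv_succ {𝒞 : Type u₁} [Category.{v₁} 𝒞] [Abelian 𝒞] [HasExt.{w} 𝒞]
    {𝒟 : Type u₂} [Category.{v₂} 𝒟] [Abelian 𝒟] [HasExt.{w'} 𝒟] (P : 𝒞) (P' : 𝒟)
    {S : ShortComplex 𝒞} (hS : S.ShortExact) [Injective S.X₂]
    {S' : ShortComplex 𝒟} (hS' : S'.ShortExact) [Injective S'.X₂] (n : ℕ)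
    (e : Ext P S.X₃ n ≃+ Ext P' S'.X₃ n)
    (he : ∀ y, (∃ z : Ext P S.X₂ n, z.comp (Ext.mk₀ S.g) (add_zero n) = y) ↔
      (∃ z' : Ext P' S'.X₂ n, z'.comp (Ext.mk₀ S'.g) (add_zero n) = e y)) :
    Nonempty (Ext P S.X₁ (n + 1) ≃+ Ext P' S'.X₁ (n + 1)) := by
  let δ := hS.extClass.postcomp P (rfl : n + 1 = n + 1)
  let δ' := hS'.extClass.postcomp P' (rfl : n + 1 = n + 1)
  have hK : AddSubgroup.map (e : Ext P S.X₃ n →+ Ext P' S'.X₃ n) δ.ker = δ'.ker := by
    ext y'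
    rw [AddSubgroup.mem_map, AddMonoidHom.mem_ker]
    constructor
    · rintro ⟨y, hy, rfl⟩
      rw [AddMonoidHom.mem_ker] at hy
      exact (extDelta_eq_zero_iff P' hS' n _).2 ((he y).1 ((extDelta_eq_zero_iff P hS n y).1 hy))
    · intro hy'
      obtain ⟨y, rfl⟩ := e.surjective y'
      refine ⟨y, ?_, rfl⟩
      rw [AddMonoidHom.mem_ker]
      exact (extDelta_eq_zero_iff P hS n y).2 ((he y).2 ((extDelta_eq_zero_iff P' hS' n _).1 hy'))
  exact ⟨(QuotientAddGroup.quotientKerEquivOfSurjective δ (extDelta_surjective P hS n)).symm.trans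
    ((QuotientAddGroup.congr δ.ker δ'.ker e hK).trans
      (QuotientAddGroup.quotientKerEquivOfSurjective δ' (extDelta_surjective P' hS' n)))⟩

/-- Leray without spectral sequences: if `Φ` preserves injectives, `Hom(P, -) ≃ Hom(P', Φ -)` naturally and the higher
derived functors of `Φ` vanish on `F`, then `Extⁱ(P, F) ≃ Extⁱ(P', Φ F)`. -/
theorem nonempty_ext_addEquiv_push {𝒞 : Type u₁} [Category.{v₁} 𝒞] [Abelian 𝒞] [HasExt.{w} 𝒞]
    [EnoughInjectives 𝒞]
    {𝒟 : Type u₂} [Category.{v₂} 𝒟] [Abelian 𝒟] [HasExt.{w'} 𝒟]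
    (Φ : 𝒞 ⥤ 𝒟) [Φ.Additive] [PreservesFiniteLimits Φ]
    (hΦ : ∀ I : 𝒞, Injective I → Injective (Φ.obj I))
    (P : 𝒞) (P' : 𝒟) (γ : ∀ G : 𝒞, (P ⟶ G) ≃+ (P' ⟶ Φ.obj G))
    (hγ : ∀ (G G' : 𝒞) (φ : P ⟶ G) (g : G ⟶ G'), γ G' (φ ≫ g) = γ G φ ≫ Φ.map g) :
    ∀ (i : ℕ) (F : 𝒞), (∀ q, IsZero ((Φ.rightDerived (q + 1)).obj F)) →
      Nonempty (Ext P F i ≃+ Ext P' (Φ.obj F) i) := by
  have : HasInjectiveResolutions 𝒞 := inferInstance
  let Δ := Groth.Agent.Lib.Helper83.derivedLES Φ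
  intro i
  induction i with
  | zero =>
    intro F _
    exact ⟨Ext.addEquiv₀.trans ((γ F).trans Ext.addEquiv₀.symm)⟩
  | succ n ih =>
    intro F hF
    let S : ShortComplex 𝒞 :=
      ShortComplex.mk (Injective.ι F) (cokernel.π (Injective.ι F)) (cokernel.condition _)
    have hS : S.ShortExact :=
      { exact := ShortComplex.exact_of_g_is_cokernel _ (cokernelIsCokernel S.f) }
    have hI : Injective S.X₂ := inferInstanceAs (Injective (Injective.under F))
    have hI' : Injective (S.map Φ).X₂ := hΦ _ hI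
    -- `Φ` keeps the sequence short exact
    have hepi : Epi (Φ.map S.g) := by
      have h3 := Δ.exact₃ S hS 0 1 rfl
      have hepi0 : Epi ((Φ.rightDerived 0).map S.g) := h3.epi_f ((hF 0).eq_of_tgt _ _)
      have hnat := (Functor.rightDerivedZeroIsoSelf Φ).hom.naturality S.g
      have : Φ.map S.g = (Functor.rightDerivedZeroIsoSelf Φ).inv.app S.X₂ ≫
          (Φ.rightDerived 0).map S.g ≫ (Functor.rightDerivedZeroIsoSelf Φ).hom.app S.X₃ := by
        rw [hnat, ← Category.assoc, Iso.inv_hom_id_app]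
        exact (Category.id_comp _).symm
      rw [this]
      infer_instance
    have hmono : Mono (Φ.map S.f) := by
      have := hS.mono_f
      infer_instance
    have hS' : (S.map Φ).ShortExact :=
      ShortComplex.ShortExact.mk'
        (hS.exact.map_of_mono_of_preservesKernel _ hS.mono_f inferInstance) hmono hepi
    -- the quotient still has vanishing higher derived functors
    have hQ : ∀ q, IsZero ((Φ.rightDerived (q + 1)).obj S.X₃) := by
      intro q
      have h3 := Δ.exact₃ S hS (q + 1) (q + 2) rfl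
      have hz : IsZero ((Φ.rightDerived (q + 1)).obj S.X₂) :=
        Functor.isZero_rightDerived_obj_injective_succ Φ q S.X₂
      exact h3.isZero_of_both_zeros (hz.eq_of_src _ _) ((hF (q + 1)).eq_of_tgt _ _)
    cases n with
    | zero =>
      let e : Ext P S.X₃ 0 ≃+ Ext P' (S.map Φ).X₃ 0 :=
        Ext.addEquiv₀.trans ((γ S.X₃).trans Ext.addEquiv₀.symm)
      have he0 : ∀ ψ : P ⟶ S.X₃, e (Ext.mk₀ ψ) = Ext.mk₀ (γ S.X₃ ψ) := by
        intro ψ
        change Ext.addEquiv₀.symm (γ S.X₃ (Ext.addEquiv₀ (Ext.addEquiv₀.symm ψ))) = _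
        rw [AddEquiv.apply_symm_apply]
        rfl
      refine nonempty_ext_addEquiv_succ P P' hS hS' 0 e (fun y => ?_)
      constructor
      · rintro ⟨z, rfl⟩
        obtain ⟨ζ, rfl⟩ := Ext.addEquiv₀.symm.surjective z
        refine ⟨Ext.mk₀ (γ S.X₂ ζ), ?_⟩
        change (Ext.mk₀ _).comp (Ext.mk₀ (Φ.map S.g)) _ = e ((Ext.mk₀ ζ).comp (Ext.mk₀ S.g) _)
        rw [Ext.mk₀_comp_mk₀, Ext.mk₀_comp_mk₀, he0, hγ]
      · rintro ⟨z', hz'⟩
        obtain ⟨ζ', rfl⟩ := Ext.addEquiv₀.symm.surjective z'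
        obtain ⟨ζ, rfl⟩ := (γ S.X₂).surjective ζ'
        refine ⟨Ext.mk₀ ζ, e.injective ?_⟩
        rw [← hz']
        change e ((Ext.mk₀ ζ).comp (Ext.mk₀ S.g) _) = (Ext.mk₀ _).comp (Ext.mk₀ (Φ.map S.g)) _
        rw [Ext.mk₀_comp_mk₀, Ext.mk₀_comp_mk₀, he0, hγ]
    | succ m =>
      obtain ⟨e⟩ := ih S.X₃ hQ
      refine nonempty_ext_addEquiv_succ P P' hS hS' (m + 1) e (fun y => ?_)
      have h1 : (∃ z : Ext P S.X₂ (m + 1), z.comp (Ext.mk₀ S.g) (add_zero (m + 1)) = y) ↔ y = 0 := by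
        constructor
        · rintro ⟨z, rfl⟩
          rw [Ext.eq_zero_of_injective z, Ext.zero_comp]
        · rintro rfl
          exact ⟨0, Ext.zero_comp _ _ _ _ _⟩
      have h2 : (∃ z' : Ext P' (S.map Φ).X₂ (m + 1),
          z'.comp (Ext.mk₀ (S.map Φ).g) (add_zero (m + 1)) = e y) ↔ e y = 0 := by
        constructor
        · rintro ⟨z, hz⟩
          rw [← hz, Ext.eq_zero_of_injective z, Ext.zero_comp]
          rfl
        · intro h
          exact ⟨0, (Ext.zero_comp _ _ _ _ _).trans h.symm⟩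
      refine h1.trans (Iff.trans ?_ h2.symm)
      exact ⟨fun h => by rw [h, map_zero], fun h => e.injective (h.trans (map_zero e).symm)⟩

end Groth.Agent.Lib.Helper21.EtCartan
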